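import Cfsg.Agent.Lib.Linear.Cusp.Primary
import Cfsg.Agent.Lib.Block.ModularLift

/-!
# The lifted eigenvalue sum of a representation over a finite field

For an injective multiplicative map from a field where the characteristic polynomials split, the
eigenvalue sum of a representation is a generalized character.
-/

set_option autoImplicit false
set_option linter.unusedSectionVars false
set_option linter.style.haveILetI false
set_option maxHeartbeats 1000000

namespace Cfsg.Lib.Cusp

open Module Polynomial Cfsg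
open scoped ComplexConjugate

universe u v w

section Scalar

variable {L : Type v} [Field L] [Fintype L] (ω : L →*₀ ℂ)
variable {U : Type v} [AddCommGroup U] [Module L U] [FiniteDimensional L U]

theorem eig_scalar (c : L) : eig ω (algebraMap L (End L U) c) = finrank L U * ω c := by
  classical
  have h : (algebraMap L (End L U) c).charpoly = (X - C c) ^ finrank L U := by
    rw [← LinearMap.charpoly_toMatrix _ (Module.finBasis L U)]
    have : LinearMap.toMatrix (finBasis L U) (finBasis L U) (algebraMap L (End L U) c) =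
        Matrix.diagonal fun _ => c := by
      rw [show (Matrix.diagonal fun _ => c : Matrix (Fin (finrank L U)) _ L) = algebraMap L _ c from
        (Matrix.algebraMap_eq_diagonal c).symm]
      exact (LinearMap.toMatrixAlgEquiv (finBasis L U)).commutes c
    rw [this, Matrix.charpoly_diagonal, Finset.prod_const, Finset.card_univ, Fintype.card_fin]
  rw [eig, h]
  simp [Multiset.map_nsmul, Multiset.sum_nsmul]

theorem eig_scalar_mul (c : L) {T : End L U} (hT : T.charpoly.Splits) :
    eig ω (algebraMap L (End L U) c * T) = ω c * eig ω T := by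
  induction hn : finrank L U using Nat.strong_induction_on generalizing U with
  | _ n ih =>
  subst hn
  by_cases h0 : finrank L U = 0
  · rw [eig_of_finrank_zero _ _ h0, eig_of_finrank_zero _ _ h0, mul_zero]
  obtain ⟨a, ha⟩ := hT.exists_eval_eq_zero (by
    rw [degree_eq_natDegree T.charpoly_monic.ne_zero, LinearMap.charpoly_natDegree]
    exact_mod_cast h0)
  have hev : T.HasEigenvalue a := (End.hasEigenvalue_iff_isRoot_charpoly T a).2 ha
  set W := T.eigenspace a with hW
  have hWmem : ∀ x ∈ W, T x = a • x := fun x hx => End.mem_eigenspace_iff.1 hx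
  have hinv : W ≤ W.comap T := fun x hx => by
    rw [Submodule.mem_comap, hWmem x hx]
    exact W.smul_mem _ hx
  have hinv' : W ≤ W.comap (algebraMap L (End L U) c * T) := fun x hx => W.smul_mem c (hinv hx)
  rw [eig_add _ _ W hinv', eig_add _ T W hinv, mul_add]
  congr 1
  · rw [show (algebraMap L (End L U) c * T).restrict hinv' = algebraMap L (End L W) (c * a) from
        LinearMap.ext fun x => Subtype.ext (by
          show c • T (x : U) = (c * a) • (x : U)
          rw [hWmem x x.2, smul_smul]),
      show T.restrict hinv = algebraMap L (End L W) a from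
        LinearMap.ext fun x => Subtype.ext (hWmem x x.2), eig_scalar, eig_scalar, map_mul]
    ring
  · rw [show W.mapQ W (algebraMap L (End L U) c * T) hinv' =
        algebraMap L (End L (U ⧸ W)) c * W.mapQ W T hinv from
      Submodule.linearMap_qext _ (LinearMap.ext fun x => rfl)]
    refine ih (finrank L (U ⧸ W)) ?_ (hT.of_dvd T.charpoly_monic.ne_zero
      ⟨_, (Cfsg.Lib.Linear.IsoFix.charpoly_split T W hinv).trans (mul_comm _ _)⟩) rfl
    have := W.finrank_quotient_add_finrank
    have : 0 < finrank L W := Submodule.one_le_finrank_iff.2 hev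
    omega

/-- The multiplicities of linear characters of a nilpotent group in the eigenvalue sum are
integers. -/
theorem sum_eig_linear (hω : Function.Injective ω) :
    ∀ (N : ℕ) {S : Type w} [Group S] [Fintype S] [Group.IsNilpotent S] {U : Type v} [AddCommGroup U]
      [Module L U] [FiniteDimensional L U] (τ : S →* End L U) (lam : S →* ℂ),
      Nat.card S + finrank L U ≤ N → (∀ s, (τ s).charpoly.Splits) →
      ∃ k : ℤ, ∑ s, lam s * eig ω (τ s) = (Nat.card S : ℂ) * k := by
  intro N
  induction N with
  | zero =>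
    intro S _ _ _ U _ _ _ τ lam h
    have := Nat.card_pos (α := S)
    omega
  | succ N ih =>
  intro S _ _ _ U _ _ _ τ lam hN hsp
  classical
  by_cases h0 : finrank L U = 0
  · exact ⟨0, by simp [eig_of_finrank_zero _ _ h0]⟩
  -- a central element that is not scalar splits the space
  by_cases hscal : ∃ z ∈ Subgroup.center S, ∀ c, τ z ≠ algebraMap L (End L U) c
  · obtain ⟨z, hz, hne⟩ := hscal
    obtain ⟨a, ha⟩ := (hsp z).exists_eval_eq_zero (by
      rw [degree_eq_natDegree (τ z).charpoly_monic.ne_zero, LinearMap.charpoly_natDegree]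
      exact_mod_cast h0)
    set W := (τ z).eigenspace a with hW
    have hbot : W ≠ ⊥ := (End.hasEigenvalue_iff_isRoot_charpoly (τ z) a).2 ha
    have htop : W ≠ ⊤ := fun h => hne a (LinearMap.ext fun x =>
      End.mem_eigenspace_iff.1 (show x ∈ W from h ▸ Submodule.mem_top))
    have hinv : ∀ s, W ≤ W.comap (τ s) := fun s x hx => by
      rw [Submodule.mem_comap, hW, End.mem_eigenspace_iff, ← End.mul_apply, ← map_mul,
        ← Subgroup.mem_center_iff.1 hz s, map_mul, End.mul_apply, End.mem_eigenspace_iff.1 hx, map_smul]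
    let τ1 : S →* End L W :=
      { toFun := fun s => (τ s).restrict (hinv s)
        map_one' := LinearMap.ext fun x => Subtype.ext <| by simp
        map_mul' := fun s t => LinearMap.ext fun x => Subtype.ext <| by simp }
    let τ2 : S →* End L (U ⧸ W) :=
      { toFun := fun s => W.mapQ W (τ s) (hinv s)
        map_one' := Submodule.linearMap_qext _ (LinearMap.ext fun x => by simp)
        map_mul' := fun s t => Submodule.linearMap_qext _ (LinearMap.ext fun x => by simp) }
    have hfac : ∀ s, (τ s).charpoly = (τ1 s).charpoly * (τ2 s).charpoly := fun s =>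
      Cfsg.Lib.Linear.IsoFix.charpoly_split (τ s) W (hinv s)
    have hlt1 := Submodule.finrank_lt htop
    have hlt2 : finrank L (U ⧸ W) < finrank L U := by
      have := W.finrank_quotient_add_finrank
      have : 0 < finrank L W := Submodule.one_le_finrank_iff.2 hbot
      omega
    obtain ⟨k1, hk1⟩ := ih τ1 lam (by omega) fun s =>
      (hsp s).of_dvd (τ s).charpoly_monic.ne_zero ⟨_, hfac s⟩
    obtain ⟨k2, hk2⟩ := ih τ2 lam (by omega) fun s =>
      (hsp s).of_dvd (τ s).charpoly_monic.ne_zero ⟨_, (hfac s).trans (mul_comm _ _)⟩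
    refine ⟨k1 + k2, ?_⟩
    rw [Int.cast_add, mul_add, ← hk1, ← hk2, ← Finset.sum_add_distrib]
    exact Finset.sum_congr rfl fun s _ => by rw [eig_add _ _ W (hinv s), mul_add]; rfl
  push Not at hscal
  choose c hc using hscal
  haveI : Nontrivial U := Module.nontrivial_of_finrank_pos (R := L) (Nat.pos_of_ne_zero h0)
  have hinj : Function.Injective (algebraMap L (End L U)) := FaithfulSMul.algebraMap_injective L _
  by_cases hab : ∀ s, s ∈ Subgroup.center S
  · let ψ : S →* ℂ :=
      { toFun := fun s => lam s * ω (c s (hab s))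
        map_one' := by
          rw [map_one, one_mul, show c 1 (hab 1) = 1 from hinj (by rw [← hc 1 (hab 1), map_one, map_one]),
            map_one]
        map_mul' := fun s t => by
          rw [map_mul, show c (s * t) (hab _) = c s (hab s) * c t (hab t) from
            hinj (by rw [← hc _ (hab _), map_mul, map_mul, ← hc, ← hc]), map_mul]
          ring }
    refine ⟨if ψ = 1 then (finrank L U : ℤ) else 0, ?_⟩
    rw [Finset.sum_congr rfl fun s _ => show lam s * eig ω (τ s) = finrank L U * ψ s by
      rw [hc s (hab s), eig_scalar]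
      show lam s * _ = _ * (lam s * ω (c s (hab s)))
      ring, ← Finset.mul_sum, sum_hom_units ψ]
    split_ifs with h
    · rw [Nat.card_eq_fintype_card]
      push_cast
      ring
    · simp
  -- a central commutator
  obtain ⟨z, hzc, hz1, hlz⟩ : ∃ z ∈ Subgroup.center S, z ≠ 1 ∧ lam z = 1 := by
    push Not at hab
    haveI : Nontrivial (S ⧸ Subgroup.center S) := by
      obtain ⟨s, hs⟩ := hab
      exact ⟨⟨(s : S ⧸ Subgroup.center S), 1, fun h => hs ((QuotientGroup.eq_one_iff _).1 h)⟩⟩
    haveI : Nontrivial (Subgroup.center (S ⧸ Subgroup.center S)) :=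
      (Subgroup.nontrivial_iff_ne_bot _).2 (Group.IsNilpotent.center_ne_bot _)
    obtain ⟨⟨xq, hxq⟩, hx1⟩ := exists_ne (1 : Subgroup.center (S ⧸ Subgroup.center S))
    obtain ⟨x, rfl⟩ := QuotientGroup.mk_surjective xq
    have hxn : x ∉ Subgroup.center S := fun h => hx1 (Subtype.ext ((QuotientGroup.eq_one_iff _).2 h))
    rw [Subgroup.mem_center_iff] at hxn
    push Not at hxn
    obtain ⟨y, hy⟩ := hxn
    refine ⟨x * y * x⁻¹ * y⁻¹, ?_, fun h => hy ?_, ?_⟩
    · rw [← QuotientGroup.eq_one_iff]
      have := Subgroup.mem_center_iff.1 hxq (y : S ⧸ Subgroup.center S)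
      simp only [QuotientGroup.mk_mul, QuotientGroup.mk_inv]
      rw [← this]
      group
    · calc y * x = (x * y * x⁻¹ * y⁻¹) * (y * x) := by rw [h, one_mul]
        _ = x * y := by group
    · have hm : lam (x * y * x⁻¹ * y⁻¹) = (lam x * lam x⁻¹) * (lam y * lam y⁻¹) := by
        simp only [map_mul]; ring
      rw [hm, ← map_mul, ← map_mul, mul_inv_cancel, mul_inv_cancel, map_one, mul_one]
  by_cases hcz : c z hzc = 1
  · haveI hn : (Subgroup.zpowers z).Normal := ⟨fun m hm g => by
      obtain ⟨i, rfl⟩ := hm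
      rw [Subgroup.mem_center_iff.1 ((Subgroup.center S).zpow_mem hzc i) g, mul_inv_cancel_right]
      exact ⟨i, rfl⟩⟩
    have hτz : τ z = 1 := by rw [hc z hzc, hcz, map_one]
    let τ' := QuotientGroup.lift (Subgroup.zpowers z) τ (Subgroup.zpowers_le.2 hτz)
    let lam' := QuotientGroup.lift (Subgroup.zpowers z) lam (Subgroup.zpowers_le.2 hlz)
    letI : Fintype (S ⧸ Subgroup.zpowers z) := Fintype.ofFinite _
    have hlt : Nat.card (S ⧸ Subgroup.zpowers z) < Nat.card S := by
      rw [Subgroup.card_eq_card_quotient_mul_card_subgroup (Subgroup.zpowers z)]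
      refine lt_mul_of_one_lt_right Nat.card_pos ?_
      rw [Nat.card_zpowers]
      have := orderOf_pos z
      have := mt orderOf_eq_one_iff.1 hz1
      omega
    obtain ⟨k, hk⟩ := ih τ' lam' (by omega) (QuotientGroup.mk_surjective.forall.2 fun s => hsp s)
    refine ⟨k, ?_⟩
    rw [Subgroup.card_eq_card_quotient_mul_card_subgroup (Subgroup.zpowers z), Nat.cast_mul,
      mul_comm (Nat.card (S ⧸ _) : ℂ), mul_assoc, ← hk, Finset.mul_sum,
      ← Finset.sum_fiberwise Finset.univ (fun s : S => (s : S ⧸ Subgroup.zpowers z))]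
    refine Finset.sum_congr rfl fun q _ => ?_
    rw [Finset.sum_congr rfl fun s hs => show lam s * eig ω (τ s) = lam' q * eig ω (τ' q) by
      rw [← (Finset.mem_filter.1 hs).2]; rfl, Finset.sum_const, nsmul_eq_mul]
    congr 2
    obtain ⟨x, rfl⟩ := QuotientGroup.mk_surjective q
    rw [← Fintype.card_subtype, ← Nat.card_eq_fintype_card]
    exact Nat.card_congr ((Equiv.mulLeft x⁻¹).subtypeEquiv fun s => by
      rw [Equiv.coe_mulLeft, eq_comm, QuotientGroup.eq])
  · refine ⟨0, ?_⟩
    have hne : ω (c z hzc) ≠ 1 := fun h => hcz (hω (h.trans (map_one ω).symm))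
    have heq : ∑ s, lam s * eig ω (τ s) = ω (c z hzc) * ∑ s, lam s * eig ω (τ s) := by
      conv_lhs => rw [← Equiv.sum_comp (Equiv.mulLeft z)]
      rw [Finset.mul_sum]
      refine Finset.sum_congr rfl fun s _ => ?_
      rw [Equiv.coe_mulLeft, map_mul, hlz, one_mul, map_mul, hc z hzc, eig_scalar_mul _ _ (hsp s)]
      ring
    rw [Int.cast_zero, mul_zero]
    have h2 : (ω (c z hzc) - 1) * ∑ s, lam s * eig ω (τ s) = 0 := by rw [sub_mul, one_mul, ← heq, sub_self]
    exact (mul_eq_zero.1 h2).resolve_left (sub_ne_zero.2 hne)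

end Scalar

section Lift

noncomputable local instance (priority := high) fintypeSubgroupCuspBrauer {A : Type w}
    [Group A] [Fintype A] (H : Subgroup A) : Fintype H := Fintype.ofFinite H

variable {p : ℕ} [Fact p.Prime] {A : Type w} [Group A] [Fintype A]

open Cfsg.Lib.Block in
/-- Brauer's characterization applied to a function of the regular part, with the multiplicities
taken at nilpotent subgroups only. -/
theorem isGeneralized_comp_pReg_of_nilpotent {Φ : A → ℂ} (hΦ : IsClassFunction A Φ)
    (hmult : ∀ S : Subgroup A, Group.IsNilpotent S → ¬ p ∣ Nat.card S → ∀ lam : S →* ℂˣ, ∃ r : ℤ,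
      classInner (fun s : S => Φ s) (fun s : S => (lam s : ℂ)) = (r : ℂ)) :
    IsGeneralizedCharacter A (fun g => Φ (pReg p g)) := by
  classical
  have hγc : IsClassFunction A (fun g => Φ (pReg p g)) := fun x y => by
    show Φ (pReg p (y * x * y⁻¹)) = Φ (pReg p x)
    rw [pReg_conj, hΦ]
  refine Char.isGeneralizedCharacter_of_elementary hγc fun E l hl hE => ?_
  obtain ⟨Q, R', hQ, hR, hQR, hsup⟩ := exists_split_elementary (p := p) hl hE
  have hsplit : ∀ g : E, ∃ r ∈ R', pReg p (g : A) = r ∧ pPt p (g : A) ∈ Q := by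
    intro g
    obtain ⟨x, hx, r, hr, he⟩ := exists_mul_of_mem_sup hQR (g := (g : A)) (by rw [hsup]; exact g.2)
    refine ⟨r, hr, ?_, ?_⟩
    · have h1 := pPt_mul_of_sup hQ hR hQR hx hr
      have h2 := pPt_mul_pReg (p := p) (x * r)
      rw [h1] at h2
      rw [← he]
      exact mul_left_cancel h2
    · rw [← he, pPt_mul_of_sup hQ hR hQR hx hr]; exact hx
  choose π hπR hπ hπQ using hsplit
  let f : E →* R' := MonoidHom.mk' (fun g => ⟨π g, hπR g⟩) fun g h => Subtype.ext (by
    show π (g * h) = π g * π h
    rw [← hπ, ← hπ, ← hπ, Subgroup.coe_mul]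
    have hg : (g : A) ∈ Q ⊔ R' := hsup.symm ▸ g.2
    have hh : (h : A) ∈ Q ⊔ R' := hsup.symm ▸ h.2
    have h1 := pPt_mul_mul hQ hR hQR hg hh
    have h2 := pPt_mul_pReg (p := p) ((g : A) * h)
    rw [h1] at h2
    have h3 : Commute (pReg p (g : A)) (pPt p (h : A)) := by
      rw [hπ g]
      exact (hQR _ (hπQ h) _ (hπR g)).symm
    refine mul_left_cancel (a := pPt p (g : A) * pPt p (h : A)) ?_
    rw [h2]
    calc (g : A) * h = pPt p (g : A) * pReg p (g : A) * (pPt p (h : A) * pReg p (h : A)) := by
          rw [pPt_mul_pReg, pPt_mul_pReg]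
      _ = pPt p (g : A) * (pReg p (g : A) * pPt p (h : A)) * pReg p (h : A) := by group
      _ = _ := by rw [h3.eq]; group)
  have hgen : IsGeneralizedCharacter R' (fun r : R' => Φ r) := by
    haveI : Group.IsNilpotent E := isNilpotent_of_isElementary hl hE
    have hRE : R' ≤ E := hsup ▸ le_sup_right
    haveI : Group.IsNilpotent R' :=
      Group.nilpotent_of_mulEquiv (Subgroup.subgroupOfEquivOfLe hRE)
    have hc : IsClassFunction R' (fun r : R' => Φ r) := fun x y => hΦ (x : A) (y : A)
    refine Char.isGeneralizedCharacter_iff.2 ⟨hc, fun θ hθ => ?_⟩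
    obtain ⟨H, lam, rfl⟩ := Char.exists_monomial_of_nilpotent _ rfl hθ
    obtain ⟨ι, hι⟩ : ∃ ι : H ≃* H.map R'.subtype, ∀ h : H, ((ι h : _) : A) = ((h : R') : A) :=
      ⟨H.equivMapOfInjective _ R'.subtype_injective, fun h => rfl⟩
    have hHp : ¬ p ∣ Nat.card (H.map R'.subtype) := fun h =>
      hR (h.trans (Subgroup.card_dvd_of_le (Subgroup.map_subtype_le H)))
    obtain ⟨r, hr⟩ := hmult _ (Group.nilpotent_of_mulEquiv ι) hHp (lam.comp ι.symm.toMonoidHom)
    refine ⟨r, ?_⟩
    rw [← Char.classInner_conj_symm, Char.classInner_indFun H _ hc, Char.classInner_conj_symm]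
    rw [← hr]
    simp only [classInner]
    rw [Nat.card_congr ι.toEquiv]
    congr 1
    refine Fintype.sum_equiv ι.toEquiv _ _ fun h => ?_
    simp only [MulEquiv.toEquiv_eq_coe, MulEquiv.coe_toEquiv, MonoidHom.comp_apply,
      MulEquiv.coe_toMonoidHom, MulEquiv.symm_apply_apply, hι]
  have hcomp := hgen.comp f
  convert hcomp using 1
  funext g
  show Φ (pReg p (g : A)) = _
  rw [hπ g]
  rfl

variable {F : Type u} [Field F] [Fintype F] [CharP F p] {L : Type v} [Field L] [Fintype L]
  [Algebra F L] {n : ℕ}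

open Cfsg.Lib.Block in
theorem charpoly_pReg (ρ : A →* Matrix (Fin n) (Fin n) F) (g : A) :
    (ρ g).charpoly = (ρ (pReg p g)).charpoly := by
  obtain ⟨k, hk⟩ := exists_orderOf_pPt (p := p) g
  obtain ⟨e, -, he⟩ := FiniteField.card F p
  have hpow : ∀ (j : ℕ) (M : Matrix (Fin n) (Fin n) F),
      (M ^ Fintype.card F ^ j).charpoly = M.charpoly := by
    intro j M
    induction j with
    | zero => simp
    | succ j ih => rw [pow_succ, pow_mul, FiniteField.Matrix.charpoly_pow_card, ih]
  have h1 : pPt p g ^ Fintype.card F ^ k = 1 :=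
    orderOf_dvd_iff_pow_eq_one.1 (hk ▸ pow_dvd_pow_of_dvd (he ▸ dvd_pow_self p e.ne_zero) k)
  have h2 : g ^ Fintype.card F ^ k = pReg p g ^ Fintype.card F ^ k := by
    conv_lhs => rw [← pPt_mul_pReg (p := p) g, (pPt_commute_pReg g).mul_pow, h1, one_mul]
  rw [← hpow k (ρ g), ← map_pow, h2, map_pow, hpow]

/-- The lifted eigenvalue sum is a generalized character. -/
theorem isGeneralized_eig (ω : L →*₀ ℂ) (hω : Function.Injective ω)
    (ρ : A →* Matrix (Fin n) (Fin n) F)
    (hsplit : ∀ a, ((ρ a).charpoly.map (algebraMap F L)).Splits) :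
    IsGeneralizedCharacter A
      (fun a => (((ρ a).charpoly.map (algebraMap F L)).roots.map ω).sum) := by
  obtain ⟨p, hchar⟩ := CharP.exists F
  haveI : Fact p.Prime := ⟨CharP.char_is_prime F p⟩
  haveI := hchar
  let τ : A →* End L (Fin n → L) :=
    ((Matrix.toLinAlgEquiv' : Matrix (Fin n) (Fin n) L ≃ₐ[L] _).toMonoidHom).comp
      ((algebraMap F L).mapMatrix.toMonoidHom.comp ρ)
  have hτ : ∀ a, (τ a).charpoly = (ρ a).charpoly.map (algebraMap F L) := fun a => by
    rw [← Matrix.charpoly_map, ← Matrix.charpoly_toLin']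
    rfl
  set Φ : A → ℂ := fun a => (((ρ a).charpoly.map (algebraMap F L)).roots.map ω).sum with hΦ
  have heig : ∀ a, eig ω (τ a) = Φ a := fun a => by
    rw [eig, Algebra.algebraMap_self, Polynomial.map_id, hτ]
  have hc : IsClassFunction A Φ := fun x y => by
    simp only [hΦ]
    rw [show ρ (y * x * y⁻¹) = ((ρ.toHomUnits y : (Matrix (Fin n) (Fin n) F)ˣ) : Matrix (Fin n) (Fin n) F) *
      ρ x * (((ρ.toHomUnits y)⁻¹ : (Matrix (Fin n) (Fin n) F)ˣ) : Matrix (Fin n) (Fin n) F) by
        rw [← map_inv, map_mul, map_mul]; rfl,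
      Matrix.coe_units_inv, Matrix.charpoly_units_conj]
  have h := isGeneralized_comp_pReg_of_nilpotent (p := p) hc fun S hS _ lam => by
    haveI := hS
    let lam' : S →* ℂ :=
      ((starRingEnd ℂ).toMonoidHom.comp (Units.coeHom ℂ)).comp lam
    obtain ⟨k, hk⟩ := sum_eig_linear ω hω _ (τ.comp S.subtype) lam' le_rfl fun s => by
      show (τ (s : A)).charpoly.Splits
      rw [hτ]; exact hsplit _
    refine ⟨k, ?_⟩
    rw [classInner, Finset.sum_congr rfl fun (s : S) _ => show Φ s * conj (lam s : ℂ) =
      lam' s * eig ω ((τ.comp S.subtype) s) by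
        show Φ (s : A) * conj (lam s : ℂ) = conj (lam s : ℂ) * eig ω (τ (s : A))
        rw [heig, mul_comm], hk, ← mul_assoc,
      inv_mul_cancel₀ (Nat.cast_ne_zero.2 Nat.card_pos.ne'), one_mul]
  convert h using 1
  funext a
  simp only [hΦ, charpoly_pReg (p := p) ρ a]

end Lift

end Cfsg.Lib.Cusp
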