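import Cfsg.Agent.Lib.Linear.IsotropicFix.Split

/-!
# The alternating eigenvalue function of an endomorphism

For a function `ω` on an extension field `L` of `F`, `eig ω g` is the sum of `ω` over the
eigenvalues in `L` of `g`, and `psi ω g` is determined by the requirement that the values of
`psi ω` at the invariant subspaces of `g` add up to `eig ω g`.
-/

set_option autoImplicit false
set_option linter.unusedSectionVars false
set_option linter.style.haveILetI false

namespace Cfsg.Lib.Cusp

open Module Polynomial

universe u v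

variable {F : Type u} [Field F] [Fintype F] {L : Type*} [Field L] [Algebra F L] (ω : L → ℂ)

section Defs

variable {V : Type v} [AddCommGroup V] [Module F V] [FiniteDimensional F V]

/-- The eigenvalue sum. -/
noncomputable def eig (g : End F V) : ℂ :=
  ((g.charpoly.map (algebraMap F L)).roots.map ω).sum

theorem eig_of_finrank_zero (g : End F V) (h : finrank F V = 0) : eig ω g = 0 := by
  have h1 : g.charpoly = 1 :=
    g.charpoly_monic.natDegree_eq_zero.mp (by rw [LinearMap.charpoly_natDegree, h])
  simp [eig, h1]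

theorem eig_conj {W : Type v} [AddCommGroup W] [Module F W] [FiniteDimensional F W] (e : V ≃ₗ[F] W)
    {g : End F V} {g' : End F W} (h : ∀ x, e (g x) = g' (e x)) : eig ω g' = eig ω g := by
  have : g' = e.conj g := by
    ext y
    have := h (e.symm y)
    simp only [LinearEquiv.apply_symm_apply] at this
    rw [LinearEquiv.conj_apply_apply, this]
  rw [this, eig, eig, LinearEquiv.charpoly_conj]

theorem eig_add (g : End F V) (W : Submodule F V) (h : W ≤ W.comap g) :
    eig ω g = eig ω (g.restrict h) + eig ω (W.mapQ W g h) := by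
  have hne : ((g.restrict h).charpoly.map (algebraMap F L) *
      (W.mapQ W g h).charpoly.map (algebraMap F L)) ≠ 0 :=
    mul_ne_zero ((g.restrict h).charpoly_monic.map _).ne_zero
      ((W.mapQ W g h).charpoly_monic.map _).ne_zero
  simp only [eig]
  rw [Cfsg.Lib.Linear.IsoFix.charpoly_split g W h, Polynomial.map_mul, roots_mul hne,
    Multiset.map_add, Multiset.sum_add]

end Defs

/-- The recursion with a bound on the dimension. -/
noncomputable def psiAux : ℕ → ∀ (V : Type v) [AddCommGroup V] [Module F V]
    [FiniteDimensional F V], End F V → ℂ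
  | 0, _, _, _, _, _ => 0
  | N + 1, V, _, _, _, g => eig ω g -
      ∑ᶠ W : {W : Submodule F V // W ≠ ⊤ ∧ W ≤ W.comap g}, psiAux N W.1 (g.restrict W.2.2)

theorem psiAux_succ_eq (N : ℕ) : ∀ (V : Type v) [AddCommGroup V] [Module F V]
    [FiniteDimensional F V] (g : End F V), finrank F V ≤ N →
    psiAux ω (N + 1) V g = psiAux ω N V g := by
  induction N with
  | zero =>
    intro V _ _ _ g h
    have h0 : finrank F V = 0 := by omega
    have he : IsEmpty {W : Submodule F V // W ≠ ⊤ ∧ W ≤ W.comap g} := by
      refine ⟨fun W => W.2.1 ?_⟩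
      refine Submodule.eq_top_of_finrank_eq ?_
      have := Submodule.finrank_le W.1
      omega
    show eig ω g - (∑ᶠ W : {W : Submodule F V // W ≠ ⊤ ∧ W ≤ W.comap g}, _) = 0
    rw [eig_of_finrank_zero ω g h0, finsum_of_isEmpty, sub_zero]
  | succ N ih =>
    intro V _ _ _ g h
    rw [psiAux]
    conv_rhs => rw [psiAux]
    congr 1
    refine finsum_congr fun W => ih W.1 _ ?_
    have := Submodule.finrank_lt W.2.1
    omega

theorem psiAux_eq (N : ℕ) (V : Type v) [AddCommGroup V] [Module F V] [FiniteDimensional F V]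
    (g : End F V) (h : finrank F V ≤ N) : psiAux ω N V g = psiAux ω (finrank F V) V g := by
  induction N, h using Nat.le_induction with
  | base => rfl
  | succ N hN ih => rw [psiAux_succ_eq ω N V g hN, ih]

variable {V : Type v} [AddCommGroup V] [Module F V] [FiniteDimensional F V]

/-- The alternating eigenvalue function. -/
noncomputable def psi (g : End F V) : ℂ := psiAux ω (finrank F V) V g

theorem psi_eq (g : End F V) :
    psi ω g = eig ω g -
      ∑ᶠ W : {W : Submodule F V // W ≠ ⊤ ∧ W ≤ W.comap g}, psi ω (g.restrict W.2.2) := by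
  rw [psi, ← psiAux_succ_eq ω _ V g le_rfl, psiAux]
  congr 1
  exact finsum_congr fun W => psiAux_eq ω _ W.1 _ (Submodule.finrank_le _)

theorem psi_conj {W : Type v} [AddCommGroup W] [Module F W] [FiniteDimensional F W] (e : V ≃ₗ[F] W)
    {g : End F V} {g' : End F W} (h : ∀ x, e (g x) = g' (e x)) : psi ω g' = psi ω g := by
  induction hn : finrank F V using Nat.strong_induction_on generalizing V W with
  | _ n ih =>
  subst hn
  rw [psi_eq ω g, psi_eq ω g', eig_conj ω e h]
  congr 1
  have hh : ∀ U : Submodule F V, (U ≠ ⊤ ∧ U ≤ U.comap g) ↔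
      ((Submodule.orderIsoMapComap e) U ≠ ⊤ ∧
        (Submodule.orderIsoMapComap e) U ≤ ((Submodule.orderIsoMapComap e) U).comap g') := by
    intro U
    refine and_congr ?_ ?_
    · rw [ne_eq, ne_eq, not_iff_not, map_eq_top_iff]
    · constructor
      · rintro hU _ ⟨x, hx, rfl⟩
        exact ⟨g x, hU hx, h x⟩
      · intro hU x hx
        obtain ⟨y, hy, he⟩ := hU ⟨x, hx, rfl⟩
        have : y = g x := e.injective (he.trans (h x).symm)
        rwa [Submodule.mem_comap, ← this]
  refine (finsum_eq_of_bijective _
    ((Submodule.orderIsoMapComap e).toEquiv.subtypeEquiv hh).bijective fun U => ?_).symm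
  refine (ih (finrank F U.1) (Submodule.finrank_lt U.2.1) (e.submoduleMap U.1) (fun x => ?_) rfl).symm
  exact Subtype.ext (h x)

open Classical in
/-- The value at an invariant subspace. -/
noncomputable def psiOn (g : End F V) (W : Submodule F V) : ℂ :=
  if h : W ≤ W.comap g then psi ω (g.restrict h) else 0

theorem psiOn_of {g : End F V} {W : Submodule F V} (h : W ≤ W.comap g) :
    psiOn ω g W = psi ω (g.restrict h) := dif_pos h

theorem psiOn_of_not {g : End F V} {W : Submodule F V} (h : ¬ W ≤ W.comap g) :
    psiOn ω g W = 0 := dif_neg h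

theorem psiOn_congr {g g' : End F V} {W : Submodule F V} (h : ∀ x ∈ W, g x = g' x) :
    psiOn ω g W = psiOn ω g' W := by
  by_cases hg : W ≤ W.comap g
  · have hg' : W ≤ W.comap g' := fun x hx => by
      rw [Submodule.mem_comap, ← h x hx]; exact hg hx
    rw [psiOn_of ω hg, psiOn_of ω hg']
    exact psi_conj ω (LinearEquiv.refl F W) fun x => Subtype.ext (h x x.2).symm
  · rw [psiOn_of_not ω hg, psiOn_of_not ω]
    intro hg'
    exact hg fun x hx => by rw [Submodule.mem_comap, h x hx]; exact hg' hx

theorem psi_of_finrank_zero (g : End F V) (h : finrank F V = 0) : psi ω g = 0 := by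
  rw [psi, h]; rfl

theorem psiOn_bot (g : End F V) : psiOn ω g ⊥ = 0 := by
  rw [psiOn_of ω (bot_le : (⊥ : Submodule F V) ≤ _)]
  exact psi_of_finrank_zero ω _ (finrank_bot F V)

theorem psiOn_top (g : End F V) : psiOn ω g ⊤ = psi ω g := by
  rw [psiOn_of ω (fun x _ => Submodule.mem_top)]
  exact psi_conj ω (Submodule.topEquiv (R := F) (M := V)).symm fun x => Subtype.ext rfl

theorem sum_psiOn [Fintype (Submodule F V)] (g : End F V) :
    ∑ W : Submodule F V, psiOn ω g W = eig ω g := by
  classical
  rw [← Finset.add_sum_erase _ _ (Finset.mem_univ ⊤), psiOn_top, psi_eq, finsum_eq_sum_of_fintype,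
    Finset.univ.erase_eq, sub_add_eq_add_sub, sub_eq_iff_eq_add, add_right_inj]
  rw [← Finset.sum_subset (s₁ := Finset.univ.filter fun W : Submodule F V => W ≠ ⊤ ∧ W ≤ W.comap g)
    (fun W hW => by simp [(Finset.mem_filter.1 hW).2.1])
    (fun W hW hW' => psiOn_of_not ω fun h => hW' (by simpa [h] using hW)),
    Finset.sum_subtype _ (p := fun W => W ≠ ⊤ ∧ W ≤ W.comap g) (fun W => by simp)]
  exact Finset.sum_congr rfl fun W _ => psiOn_of ω W.2.2

theorem sum_psiOn_le [Fintype (Submodule F V)] (g : End F V) {W : Submodule F V}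
    (h : W ≤ W.comap g) [DecidablePred (· ≤ W)] :
    ∑ U ∈ Finset.univ.filter (· ≤ W), psiOn ω g U = eig ω (g.restrict h) := by
  classical
  haveI : Finite V := Module.finite_of_finite F
  letI : Fintype (Submodule F W) := Fintype.ofFinite _
  rw [← sum_psiOn ω (g.restrict h)]
  refine (Finset.sum_bij' (fun U _ => U.map W.subtype) (fun U _ => U.comap W.subtype) ?_ ?_ ?_ ?_
    ?_).symm
  · intro U _; simp [Submodule.map_subtype_le]
  · intro U _; simp
  · intro U _; exact Submodule.comap_map_eq_of_injective W.subtype_injective U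
  · intro U hU
    rw [Submodule.map_comap_subtype, inf_eq_right]
    exact (Finset.mem_filter.1 hU).2
  intro U _
  by_cases hU : U ≤ U.comap (g.restrict h)
  · have hU' : U.map W.subtype ≤ (U.map W.subtype).comap g := by
      rintro _ ⟨x, hx, rfl⟩
      exact ⟨_, hU hx, rfl⟩
    rw [psiOn_of ω hU, psiOn_of ω hU']
    exact (psi_conj ω (Submodule.equivMapOfInjective _ W.subtype_injective U)
      fun x => Subtype.ext rfl).symm
  · rw [psiOn_of_not ω hU, psiOn_of_not ω]
    intro hU'
    refine hU fun x hx => ?_
    obtain ⟨y, hy, he⟩ := hU' ⟨x, hx, rfl⟩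
    have : y = g.restrict h x := Subtype.ext he
    rwa [Submodule.mem_comap, ← this]

end Cfsg.Lib.Cusp
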