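import Mathlib

/-!
# The identities between the products `(x - 1)(x - Q)⋯(x - Q^(j-1))`
-/

set_option autoImplicit false

namespace Cfsg.Lib.Cusp

open Finset

/-- `∏ i < j, (x - Q ^ i)`. -/
noncomputable def fallProd (Q x : ℂ) (j : ℕ) : ℂ := ∏ i ∈ range j, (x - Q ^ i)

/-- The value at a semisimple endomorphism with a single eigenvalue orbit. -/
noncomputable def ssVal (Q : ℂ) (j : ℕ) : ℂ :=
  if j = 0 then 0 else ∏ i ∈ Ico 1 j, (1 - Q ^ i)

variable {Q : ℂ}

theorem pow_ne_pow (h0 : Q ≠ 0) (h1 : ∀ i : ℕ, 0 < i → Q ^ i ≠ 1) {i j : ℕ} (h : i ≠ j) :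
    Q ^ i ≠ Q ^ j := by
  intro he
  rcases Nat.lt_or_gt_of_ne h with hlt | hlt <;>
    obtain ⟨k, rfl⟩ := Nat.exists_eq_add_of_lt hlt
  · rw [show i + k + 1 = i + (k + 1) by ring, pow_add, eq_comm, mul_eq_left₀ (pow_ne_zero _ h0)] at he
    exact h1 _ k.succ_pos he
  · rw [show j + k + 1 = j + (k + 1) by ring, pow_add, mul_eq_left₀ (pow_ne_zero _ h0)] at he
    exact h1 _ k.succ_pos he

theorem fallProd_self_ne (h0 : Q ≠ 0) (h1 : ∀ i : ℕ, 0 < i → Q ^ i ≠ 1) (j : ℕ) :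
    fallProd Q (Q ^ j) j ≠ 0 :=
  prod_ne_zero_iff.2 fun i hi => sub_ne_zero.2 (pow_ne_pow h0 h1 (by have := mem_range.1 hi; omega))

theorem fallProd_succ (x : ℂ) (j : ℕ) :
    fallProd Q x (j + 1) = fallProd Q x j * (x - Q ^ j) := prod_range_succ _ _

theorem fallProd_mul (x : ℂ) (j : ℕ) :
    fallProd Q (Q * x) (j + 1) = (Q * x - 1) * Q ^ j * fallProd Q x j := by
  rw [fallProd, fallProd, prod_range_succ', pow_zero,
    prod_congr rfl (fun (i : ℕ) _ => show Q * x - Q ^ (i + 1) = Q * (x - Q ^ i) by ring),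
    prod_mul_distrib, prod_const, card_range]
  ring

/-- The sequence `ssVal j / fallProd (Q ^ j) j * (Q ^ j - 1)`. -/
noncomputable def coef (Q : ℂ) (j : ℕ) : ℂ := ssVal Q j / fallProd Q (Q ^ j) j * (Q ^ j - 1)

theorem coef_one (h1 : ∀ i : ℕ, 0 < i → Q ^ i ≠ 1) : coef Q 1 = 1 := by
  have := h1 1 one_pos
  simp only [pow_one] at this
  simp [coef, ssVal, fallProd, inv_mul_cancel₀ (sub_ne_zero.2 this)]

theorem coef_succ (h0 : Q ≠ 0) (h1 : ∀ i : ℕ, 0 < i → Q ^ i ≠ 1) (j : ℕ) (hj : 1 ≤ j) :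
    coef Q (j + 1) * Q ^ j = - coef Q j := by
  have hP := fallProd_self_ne h0 h1 j
  have hQ : Q * Q ^ j - 1 ≠ 0 := by
    rw [← pow_succ']
    exact sub_ne_zero.2 (h1 _ j.succ_pos)
  have hb : Q ^ j ≠ 0 := pow_ne_zero _ h0
  have hs : ssVal Q (j + 1) = ssVal Q j * (1 - Q ^ j) := by
    simp only [ssVal, Nat.succ_ne_zero, if_false, show j ≠ 0 by omega, prod_Ico_succ_top hj]
  rw [coef, coef, hs, pow_succ', fallProd_mul]
  generalize ssVal Q j = A
  generalize fallProd Q (Q ^ j) j = P at hP ⊢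
  generalize Q ^ j = B at hQ hb ⊢
  calc A * (1 - B) / ((Q * B - 1) * B * P) * (Q * B - 1) * B
      = A * (1 - B) / P * ((Q * B - 1) * B / ((Q * B - 1) * B)) := by
        simp only [div_eq_mul_inv, mul_inv]
        ring
    _ = -(A / P * (B - 1)) := by
        rw [div_self (mul_ne_zero hQ hb)]
        ring

theorem telescope (h0 : Q ≠ 0) (h1 : ∀ i : ℕ, 0 < i → Q ^ i ≠ 1) (x : ℂ) (N : ℕ) :
    1 - x * ∑ j ∈ range N, coef Q (j + 1) * fallProd Q x j =
      coef Q (N + 1) * Q ^ N * fallProd Q x N := by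
  induction N with
  | zero => simp [coef_one h1, fallProd]
  | succ N ih =>
    rw [sum_range_succ, fallProd_succ,
      coef_succ h0 h1 (N + 1) N.succ_pos]
    linear_combination ih

theorem sum_ssVal (h0 : Q ≠ 0) (h1 : ∀ i : ℕ, 0 < i → Q ^ i ≠ 1) (m : ℕ) :
    ∀ N, m ≤ N →
      ∑ j ∈ range (N + 1), ssVal Q j * (fallProd Q (Q ^ m) j / fallProd Q (Q ^ j) j) = m := by
  induction m with
  | zero =>
    intro N _
    refine (sum_eq_zero fun j _ => ?_).trans Nat.cast_zero.symm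
    rcases j with _ | j
    · simp [ssVal]
    · simp [fallProd, prod_range_succ']
  | succ m ih =>
    intro N hN
    rcases N with _ | N
    · omega
    have hz : fallProd Q (Q ^ m) (N + 1) = 0 :=
      prod_eq_zero (mem_range.2 (show m < N + 1 by omega)) (sub_self _)
    have ht := telescope h0 h1 (Q ^ m) (N + 1)
    rw [hz, mul_zero, sub_eq_zero] at ht
    have key : ∀ j, ssVal Q (j + 1) * (fallProd Q (Q ^ (m + 1)) (j + 1) / fallProd Q (Q ^ (j + 1)) (j + 1)) =
        ssVal Q (j + 1) * (fallProd Q (Q ^ m) (j + 1) / fallProd Q (Q ^ (j + 1)) (j + 1)) +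
          Q ^ m * (coef Q (j + 1) * fallProd Q (Q ^ m) j) := by
      intro j
      rw [coef, pow_succ' Q m, fallProd_mul, fallProd_succ (Q ^ m)]
      ring
    have hih := ih (N + 1) (by omega)
    rw [sum_range_succ'] at hih ⊢
    simp only [show ssVal Q 0 = 0 from rfl, zero_mul, add_zero] at hih ⊢
    rw [sum_congr rfl fun j _ => key j, sum_add_distrib, hih, ← mul_sum, ← ht]
    simp

/-- Constants expanding `∏ i ∈ 1..N, (x - Q ^ i)` by the products `fallProd Q x j`. -/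
theorem exists_expand (Q : ℂ) (N : ℕ) : ∃ u : ℕ → ℂ, u N = 1 ∧ ∀ x : ℂ,
    ∑ j ∈ range (N + 1), u j * fallProd Q x j = ∏ i ∈ range N, (x - Q ^ (i + 1)) := by
  induction N with
  | zero => exact ⟨fun _ => 1, rfl, fun x => by simp [fallProd]⟩
  | succ N ih =>
    obtain ⟨u, hu, h⟩ := ih
    refine ⟨fun j => (if j = 0 then 0 else u (j - 1)) +
      if j ≤ N then u j * (Q ^ j - Q ^ (N + 1)) else 0, by simp [hu], fun x => ?_⟩
    rw [prod_range_succ, ← h, sum_mul]
    simp only [add_mul, sum_add_distrib]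
    rw [sum_range_succ' (fun j => (if j = 0 then 0 else u (j - 1)) * fallProd Q x j)]
    rw [sum_range_succ (fun j => (if j ≤ N then u j * (Q ^ j - Q ^ (N + 1)) else 0) * fallProd Q x j)]
    simp only [Nat.succ_ne_zero, if_false, if_true, zero_mul, add_zero, Nat.add_sub_cancel,
      show ¬ N + 1 ≤ N by omega]
    rw [← sum_add_distrib]
    refine sum_congr rfl fun j hj => ?_
    rw [if_pos (show j ≤ N by have := mem_range.1 hj; omega), fallProd_succ]
    ring

end Cfsg.Lib.Cusp
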