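import Mathlib

/-!
# Conjugates in a finite extension of a finite field
-/

set_option autoImplicit false
set_option linter.unusedSectionVars false
set_option linter.style.haveILetI false

namespace Cfsg.Lib.Cusp

open Polynomial

universe u

variable {F : Type u} [Field F] [Fintype F] {L : Type u} [Field L] [Fintype L] [Algebra F L]

/-- The fixed points of the `q`-th power are the elements of `F`. -/
theorem mem_range_of_pow_card (x : L) (hx : x ^ Fintype.card F = x) :
    x ∈ (algebraMap F L).range := by
  classical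
  have hne : (X ^ Fintype.card F - X : L[X]) ≠ 0 :=
    FiniteField.X_pow_card_sub_X_ne_zero L Fintype.one_lt_card
  have hsub : (Finset.univ : Finset F).image (algebraMap F L) ⊆
      (X ^ Fintype.card F - X : L[X]).roots.toFinset := by
    intro y hy
    obtain ⟨a, -, rfl⟩ := Finset.mem_image.1 hy
    rw [Multiset.mem_toFinset, mem_roots hne]
    simp [← map_pow, FiniteField.pow_card]
  have heq := Finset.eq_of_subset_of_card_le hsub (by
    rw [Finset.card_image_of_injective _ (algebraMap F L).injective, Finset.card_univ]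
    refine (Multiset.toFinset_card_le _).trans ((card_roots' _).trans ?_)
    rw [FiniteField.X_pow_card_sub_X_natDegree_eq L Fintype.one_lt_card])
  have : x ∈ (X ^ Fintype.card F - X : L[X]).roots.toFinset := by
    rw [Multiset.mem_toFinset, mem_roots hne]
    simp [hx]
  rw [← heq] at this
  obtain ⟨a, -, rfl⟩ := Finset.mem_image.1 this
  exact ⟨a, rfl⟩

/-- An irreducible polynomial whose degree divides `n` has its roots fixed by the `q ^ n`-th power. -/
theorem pow_card_pow_of_root {f : F[X]} (hf : Irreducible f) {n : ℕ} (hn : f.natDegree ∣ n) {a : L}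
    (ha : aeval a f = 0) : a ^ Fintype.card F ^ n = a := by
  have h : f ∣ X ^ Nat.card F ^ n - X := (hf.natDegree_dvd_iff_dvd_X_pow_card_pow_sub_X).1 hn
  obtain ⟨c, hc⟩ := h
  have := congrArg (aeval a) hc
  rw [map_sub, map_pow, aeval_X, map_mul, ha, zero_mul, sub_eq_zero, Nat.card_eq_fintype_card] at this
  exact this

open Classical in
/-- The product of the conjugates is a power of the minimal polynomial. -/
theorem exists_pow_minpoly (n : ℕ) (hn : 0 < n) (a : L) (ha : a ^ Fintype.card F ^ n = a) :
    ∃ m, 0 < m ∧ n = m * (minpoly F a).natDegree ∧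
      ∀ ω : L → ℂ, ((m : ℂ) * (((minpoly F a).map (algebraMap F L)).roots.map ω).sum) =
        ∑ i ∈ Finset.range n, ω (a ^ Fintype.card F ^ i) := by
  set q := Fintype.card F
  obtain ⟨p, hp⟩ := CharP.exists F
  haveI := hp
  haveI : Fact p.Prime := ⟨CharP.char_is_prime F p⟩
  obtain ⟨e, -, he⟩ := FiniteField.card F p
  haveI : CharP L p := charP_of_injective_algebraMap' F p
  haveI : ExpChar L p := .prime (Fact.out : p.Prime)
  set φ : L →+* L := iterateFrobenius L p e with hφ
  have hφx : ∀ x, φ x = x ^ q := fun x => by rw [hφ, iterateFrobenius_def, ← he]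
  set P : L[X] := ∏ i ∈ Finset.range n, (X - C (a ^ q ^ i)) with hP
  have hPm : P.Monic := monic_prod_of_monic _ _ fun i _ => monic_X_sub_C _
  have hfix : P.map φ = P := by
    rw [hP, Polynomial.map_prod]
    simp only [Polynomial.map_sub, map_X, map_C, hφx, ← pow_mul, ← pow_succ]
    obtain ⟨k, rfl⟩ : ∃ k, n = k + 1 := ⟨n - 1, by omega⟩
    rw [Finset.prod_range_succ (fun i => X - C (a ^ q ^ (i + 1))), Finset.prod_range_succ' (fun i => X - C (a ^ q ^ i)), ha,
      pow_zero, pow_one]
  obtain ⟨P0, hP0, -, hP0m⟩ := lifts_and_degree_eq_and_monic (f := algebraMap F L) (p := P) (by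
    rw [lifts_iff_coeff_lifts]
    intro j
    exact mem_range_of_pow_card _ (by rw [← hφx, ← coeff_map, hfix])) hPm
  set f := minpoly F a
  have hint : IsIntegral F a := Algebra.IsIntegral.isIntegral a
  have hfirr : Irreducible f := minpoly.irreducible hint
  have hfm : f.Monic := minpoly.monic hint
  have hfroot : ∀ i, aeval (a ^ q ^ i) f = 0 := by
    intro i
    induction i with
    | zero => rw [pow_zero, pow_one]; exact minpoly.aeval F a
    | succ i ih =>
      have h1 : (a ^ q ^ i) ^ q = a ^ q ^ (i + 1) := by rw [← pow_mul, ← pow_succ]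
      rw [← h1]
      have h2 := Polynomial.expand_aeval (R := F) q f (a ^ q ^ i)
      rw [← h2, FiniteField.expand_card, map_pow, ih, zero_pow Fintype.card_ne_zero]
  have hfac : ∀ h : F[X], Irreducible h → h.Monic → h ∣ P0 → h = f := by
    intro h hh hhm hd
    have hsp : (h.map (algebraMap F L)).Splits :=
      (Splits.prod fun i (_ : i ∈ Finset.range n) => Splits.X_sub_C (a ^ q ^ i)).of_dvd
        (by rw [← hP]; exact hPm.ne_zero) (by rw [← hP, ← hP0]; exact map_dvd (mapRingHom _) hd)
    obtain ⟨b, hb⟩ := hsp.exists_eval_eq_zero (by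
      rw [degree_map]; exact (degree_pos_of_irreducible hh).ne')
    have hbP : P.eval b = 0 := by
      obtain ⟨c, hc⟩ := hd
      rw [← hP0, hc, Polynomial.map_mul, eval_mul, hb, zero_mul]
    rw [hP, eval_prod, Finset.prod_eq_zero_iff] at hbP
    obtain ⟨i, -, hi⟩ := hbP
    rw [eval_sub, eval_X, eval_C, sub_eq_zero] at hi
    rw [eval_map, ← aeval_def] at hb
    rw [minpoly.eq_of_irreducible_of_monic hh hb hhm, hi,
      ← minpoly.eq_of_irreducible_of_monic hfirr (hfroot i) hfm]
  obtain ⟨b, hb, hnd⟩ := (FiniteMultiplicity.of_prime_left hfirr.prime hP0m.ne_zero).exists_eq_pow_mul_and_not_dvd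
  generalize multiplicity f P0 = m at hb
  have hbm : b.Monic := (hfm.pow m).of_mul_monic_left (hb ▸ hP0m)
  have hb1 : b = 1 := by
    by_contra hne
    obtain ⟨h, hhm, hh, hd⟩ := Polynomial.exists_monic_irreducible_factor b (fun hu => hne (hbm.eq_one_of_isUnit hu))
    exact hnd (hfac h hh hhm (hd.trans (hb ▸ dvd_mul_left b _)) ▸ hd)
  rw [hb1, mul_one] at hb
  have hdeg : n = m * f.natDegree := by
    have h1 : P.natDegree = n := by
      rw [hP, natDegree_prod_of_monic _ _ fun i _ => monic_X_sub_C _]
      rw [Finset.sum_congr rfl fun i _ => natDegree_X_sub_C (a ^ q ^ i)]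
      simp
    rw [← h1, ← hP0, natDegree_map, hb, natDegree_pow]
  refine ⟨m, Nat.pos_of_mul_pos_right (hdeg ▸ hn), hdeg, fun ω => ?_⟩
  have hr : P.roots = (Multiset.range n).map fun i => a ^ q ^ i := by
    rw [hP, Finset.prod_eq_multiset_prod, show (Finset.range n).val.map (fun i => X - C (a ^ q ^ i)) =
        ((Finset.range n).val.map fun i => a ^ q ^ i).map (fun x => X - C x) from
      (Multiset.map_map (fun x => X - C x) _ _).symm, roots_multiset_prod_X_sub_C]
    rfl
  calc (m : ℂ) * ((f.map (algebraMap F L)).roots.map ω).sum = (P.roots.map ω).sum := by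
        rw [← hP0, hb, Polynomial.map_pow, roots_pow, Multiset.map_nsmul, Multiset.sum_nsmul, nsmul_eq_mul]
    _ = _ := by rw [hr, Multiset.map_map]; rfl

end Cfsg.Lib.Cusp
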