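import Cfsg.Agent.Lib.Linear.Cusp.Value
import Cfsg.Agent.Lib.Linear.Cusp.Orbit

/-!
# Inner products of the alternating eigenvalue functions
-/

set_option autoImplicit false
set_option linter.unusedSectionVars false
set_option linter.style.haveILetI false
set_option maxHeartbeats 1000000

namespace Cfsg.Lib.Cusp

open Module Polynomial
open scoped ComplexConjugate

universe u

variable {F : Type u} [Field F] [Fintype F] {L : Type u} [Field L] [Fintype L] [Algebra F L]
variable {V : Type u} [AddCommGroup V] [Module F V] [FiniteDimensional F V]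

theorem charpoly_shift (W : Submodule F V) {g : End F V} (hW : W ≤ W.comap g) (h : (V ⧸ W) →ₗ[F] W) :
    (g + shift W h).charpoly = g.charpoly := by
  have hW' : W ≤ W.comap (g + shift W h) := fun x hx => by
    rw [Submodule.mem_comap, LinearMap.add_apply, shift_apply_mem W h hx, add_zero]
    exact hW hx
  rw [Cfsg.Lib.Linear.IsoFix.charpoly_split (g + shift W h) W hW',
    Cfsg.Lib.Linear.IsoFix.charpoly_split g W hW]
  congr 2
  · exact LinearMap.ext fun x => Subtype.ext (by
      simp [LinearMap.coe_restrict_apply, shift_apply_mem W h x.2])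
  · refine Submodule.linearMap_qext _ (LinearMap.ext fun x => ?_)
    simp [shift_apply]

/-- The inner sum over the invertible endomorphisms reduces to the eigenvalue sum. -/
theorem sum_psi_mul_conj [Fintype V] [Fintype (End F V)] (ω₁ ω₂ : L → ℂ)
    [DecidablePred fun g : End F V => g.charpoly.coeff 0 ≠ 0] :
    ∑ g ∈ Finset.univ.filter (fun g : End F V => g.charpoly.coeff 0 ≠ 0), psi ω₁ g * conj (psi ω₂ g) =
      ∑ g ∈ Finset.univ.filter (fun g : End F V => g.charpoly.coeff 0 ≠ 0), psi ω₁ g * conj (eig ω₂ g) := by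
  classical
  haveI : Finite (Submodule F V) := finite_submodule V
  letI : Fintype (Submodule F V) := Fintype.ofFinite _
  have hpt : ∀ g : End F V, psi ω₁ g * conj (psi ω₂ g) = psi ω₁ g * conj (eig ω₂ g) -
      ∑ W ∈ (Finset.univ : Finset (Submodule F V)).erase ⊤, psi ω₁ g * conj (psiOn ω₂ g W) := by
    intro g
    rw [← sum_psiOn ω₂ g, ← Finset.add_sum_erase _ _ (Finset.mem_univ (⊤ : Submodule F V)), psiOn_top,
      map_add, map_sum, mul_add, Finset.mul_sum, add_sub_cancel_right]
  rw [Finset.sum_congr rfl fun g _ => hpt g, Finset.sum_sub_distrib, Finset.sum_comm,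
    Finset.sum_eq_zero (s := (Finset.univ : Finset (Submodule F V)).erase ⊤), sub_zero]
  intro W hW
  have htop : W ≠ ⊤ := Finset.ne_of_mem_erase hW
  by_cases hbot : W = ⊥
  · subst hbot
    exact Finset.sum_eq_zero fun g _ => by rw [psiOn_bot, map_zero, mul_zero]
  haveI : Finite ((V ⧸ W) →ₗ[F] W) := finite_hom _ _
  letI : Fintype ((V ⧸ W) →ₗ[F] W) := Fintype.ofFinite _
  rw [← Finset.sum_filter_of_ne (p := fun g : End F V => W ≤ W.comap g) (fun g _ hg => by
    by_contra h
    exact hg (by rw [psiOn_of_not ω₂ h, map_zero, mul_zero]))]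
  set A := (Finset.univ.filter fun g : End F V => g.charpoly.coeff 0 ≠ 0).filter fun g => W ≤ W.comap g with hA
  have hmem : ∀ g ∈ A, ∀ h, g + shift W h ∈ A := by
    intro g hg h
    simp only [hA, Finset.mem_filter, Finset.mem_univ, true_and] at hg ⊢
    refine ⟨by rw [charpoly_shift W hg.2]; exact hg.1, fun x hx => ?_⟩
    rw [Submodule.mem_comap, LinearMap.add_apply, shift_apply_mem W h hx, add_zero]
    exact hg.2 hx
  have h2 : ∀ h, ∑ g ∈ A, psi ω₁ (g + shift W h) * conj (psiOn ω₂ g W) =
      ∑ g ∈ A, psi ω₁ g * conj (psiOn ω₂ g W) := by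
    intro h
    refine Finset.sum_bij' (fun g _ => g + shift W h) (fun g _ => g + shift W (-h)) (fun g hg => hmem g hg h)
      (fun g hg => hmem g hg (-h)) ?_ ?_ ?_
    · intro g _; ext x; simp [shift_apply]
    · intro g _; ext x; simp [shift_apply]
    · intro g _
      congr 2
      exact psiOn_congr ω₂ fun x hx => by rw [LinearMap.add_apply, shift_apply_mem W h hx, add_zero]
  have h3 : (Fintype.card ((V ⧸ W) →ₗ[F] W) : ℂ) * ∑ g ∈ A, psi ω₁ g * conj (psiOn ω₂ g W) = 0 :=
    calc _ = ∑ h, ∑ g ∈ A, psi ω₁ (g + shift W h) * conj (psiOn ω₂ g W) := by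
            rw [Finset.sum_congr rfl fun h _ => h2 h, Finset.sum_const, Finset.card_univ, nsmul_eq_mul]
      _ = ∑ g ∈ A, ∑ h, psi ω₁ (g + shift W h) * conj (psiOn ω₂ g W) := Finset.sum_comm
      _ = 0 := Finset.sum_eq_zero fun g hg => by
        simp only [hA, Finset.mem_filter] at hg
        rw [← Finset.sum_mul, sum_psi_shift ω₁ W hg.2 hbot htop, zero_mul]
  exact (mul_eq_zero.1 h3).resolve_left (Nat.cast_ne_zero.2 Fintype.card_ne_zero)

open Classical in
/-- The inner sum in terms of the elements of order dividing `q ^ n - 1`. -/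
theorem sum_psi_mul_conj_eq [Fintype V] [Fintype (End F V)] (ω₁ ω₂ : L → ℂ) {n : ℕ} (hn : 0 < n)
    (hdim : finrank F V = n) :
    ∑ g ∈ Finset.univ.filter (fun g : End F V => g.charpoly.coeff 0 ≠ 0), psi ω₁ g * conj (psi ω₂ g) =
      (Nat.card {s : Fin n → V // LinearIndependent F s} : ℂ) / ((Fintype.card F : ℂ) ^ n - 1) *
        ∑ a ∈ Finset.univ.filter (fun a : L => a ≠ 0 ∧ a ^ Fintype.card F ^ n = a),
          conj (ω₂ a) * ∑ i ∈ Finset.range n, ω₁ (a ^ Fintype.card F ^ i) := by
  haveI : PerfectField F := PerfectField.ofFinite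
  rw [sum_psi_mul_conj]
  set E := Finset.univ.filter (fun a : L => a ≠ 0 ∧ a ^ Fintype.card F ^ n = a) with hE
  have hmin : ∀ a ∈ E, ∃ m, 0 < m ∧ n = m * (minpoly F a).natDegree ∧
      ∀ ω : L → ℂ, (m : ℂ) * rootSum ω (minpoly F a) = ∑ i ∈ Finset.range n, ω (a ^ Fintype.card F ^ i) :=
    fun a ha => exists_pow_minpoly n hn a (Finset.mem_filter.1 ha).2.2
  choose! m hm0 hmn hmsum using hmin
  have hint : ∀ a : L, IsIntegral F a := fun a => Algebra.IsIntegral.isIntegral a
  -- the eigenvalue sum where `psi` is nonzero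
  have hpt : ∀ g : End F V, g.charpoly.coeff 0 ≠ 0 → psi ω₁ g * conj (eig ω₂ g) =
      ∑ a ∈ E, if g.charpoly = minpoly F a ^ m a then psi ω₁ g * ((m a : ℂ) * conj (ω₂ a)) else 0 := by
    intro g hg
    by_cases h0 : psi ω₁ g = 0
    · simp [h0]
    obtain ⟨f, hfm, hfirr, hfd⟩ := Polynomial.exists_monic_irreducible_factor g.charpoly (fun hu => by
      have := natDegree_eq_zero_of_isUnit hu
      rw [LinearMap.charpoly_natDegree, hdim] at this
      omega)
    obtain ⟨k, hk⟩ := charpoly_eq_pow ω₁ g hfirr hfm hfd h0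
    have hkn : n = k * f.natDegree := by
      rw [← natDegree_pow, ← hk, LinearMap.charpoly_natDegree, hdim]
    have hk0 : 0 < k := Nat.pos_of_mul_pos_right (hkn ▸ hn)
    have hfne : (f.map (algebraMap F L)) ≠ 0 := (hfm.map _).ne_zero
    have hroots : ∀ a, a ∈ (f.map (algebraMap F L)).roots.toFinset ↔
        a ∈ E ∧ g.charpoly = minpoly F a ^ m a := by
      intro a
      rw [Multiset.mem_toFinset, mem_roots hfne, IsRoot.def, eval_map, ← aeval_def]
      constructor
      · intro ha
        have hfa : f = minpoly F a := minpoly.eq_of_irreducible_of_monic hfirr ha hfm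
        have ha0 : a ≠ 0 := by
          rintro rfl
          refine hg ?_
          rw [hk, coeff_zero_eq_eval_zero, eval_pow, ← coeff_zero_eq_eval_zero,
            show f.coeff 0 = 0 from ?_, zero_pow hk0.ne']
          rw [← coeff_zero_eq_aeval_zero'] at ha
          exact (map_eq_zero _).1 ha
        have haE : a ∈ E := Finset.mem_filter.2 ⟨Finset.mem_univ _, ha0,
          pow_card_pow_of_root hfirr (hkn ▸ dvd_mul_left _ _) ha⟩
        refine ⟨haE, ?_⟩
        have h1 : k * f.natDegree = m a * f.natDegree := by rw [← hkn, hfa, ← hmn a haE]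
        rw [hk, ← hfa, Nat.eq_of_mul_eq_mul_right hfirr.natDegree_pos h1]
      · rintro ⟨haE, he⟩
        have hd : minpoly F a ∣ f ^ k := hk ▸ he ▸ dvd_pow_self _ (hm0 a haE).ne'
        obtain ⟨c, hc⟩ := (minpoly.irreducible (hint a)).prime.dvd_of_dvd_pow hd
        rw [hc, map_mul, minpoly.aeval, zero_mul]
    have hnodup : (f.map (algebraMap F L)).roots.Nodup :=
      nodup_roots (Polynomial.Separable.map (PerfectField.separable_of_irreducible hfirr))
    rw [← Finset.sum_filter, show E.filter (fun a => g.charpoly = minpoly F a ^ m a) =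
      (f.map (algebraMap F L)).roots.toFinset from Finset.ext fun a => by rw [hroots, Finset.mem_filter],
      Finset.sum_congr rfl (g := fun a => psi ω₁ g * ((k : ℂ) * conj (ω₂ a))) fun a ha => by
        obtain ⟨haE, he⟩ := (hroots a).1 ha
        have h1 : k * (minpoly F a).natDegree = m a * (minpoly F a).natDegree := by
          rw [Multiset.mem_toFinset, mem_roots hfne, IsRoot.def, eval_map, ← aeval_def] at ha
          rw [← hmn a haE, hkn, minpoly.eq_of_irreducible_of_monic hfirr ha hfm]
        rw [Nat.eq_of_mul_eq_mul_right (minpoly.irreducible (hint a)).natDegree_pos h1],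
      ← Finset.mul_sum, ← Finset.mul_sum, ← map_sum, eig_of_charpoly ω₂ hk, map_mul, map_natCast,
      rootSum, Finset.sum, Multiset.toFinset_val, hnodup.dedup]
  rw [Finset.sum_congr rfl fun g hg => hpt g (Finset.mem_filter.1 hg).2, Finset.sum_comm, Finset.mul_sum]
  refine Finset.sum_congr rfl fun a ha => ?_
  have haE := Finset.mem_filter.1 ha
  have hfirr := minpoly.irreducible (hint a) (A := F)
  have hfm := minpoly.monic (hint a) (A := F)
  have hc0 : ∀ g : End F V, g.charpoly = minpoly F a ^ m a → g.charpoly.coeff 0 ≠ 0 := by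
    intro g hg
    rw [hg, coeff_zero_eq_eval_zero, eval_pow, ← coeff_zero_eq_eval_zero]
    exact pow_ne_zero _ (minpoly.coeff_zero_ne_zero (hint a) haE.2.1)
  rw [← Finset.sum_filter, Finset.filter_filter,
    Finset.filter_congr (q := fun g : End F V => g.charpoly = minpoly F a ^ m a)
      (fun g _ => ⟨fun h => h.2, fun h => ⟨hc0 g h, h⟩⟩), ← Finset.sum_mul,
    sum_psi_primary ω₁ hfm hfirr (hm0 a ha) (hdim.trans (hmn a ha)), ← hmsum a ha ω₁, ← pow_mul,
    mul_comm (minpoly F a).natDegree, ← hmn a ha, hdim]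
  ring

end Cfsg.Lib.Cusp
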