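import Cfsg.Agent.Lib.Linear.Cusp.Brauer

/-!
# The alternating eigenvalue function is a generalized character of the general linear group
-/

set_option autoImplicit false
set_option linter.unusedSectionVars false
set_option linter.style.haveILetI false
set_option maxHeartbeats 1000000

namespace Cfsg.Lib.Cusp

open Module Polynomial Cfsg Matrix

universe u v

variable {F : Type u} [Field F] [Fintype F] [DecidableEq F] {L : Type v} [Field L] [Fintype L] [Algebra F L]

theorem exists_equiv_map {V : Type u} [AddCommGroup V] [Module F V] [FiniteDimensional F V]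
    (W W' : Submodule F V) (h : finrank F W = finrank F W') :
    ∃ e : V ≃ₗ[F] V, W.map e.toLinearMap = W' := by
  obtain ⟨C, hC⟩ := exists_isCompl W
  obtain ⟨C', hC'⟩ := exists_isCompl W'
  have hc : finrank F C = finrank F C' := by
    have := Submodule.finrank_add_eq_of_isCompl hC
    have := Submodule.finrank_add_eq_of_isCompl hC'
    omega
  let a := LinearEquiv.ofFinrankEq W W' h
  let b := LinearEquiv.ofFinrankEq C C' hc
  let e := (Submodule.prodEquivOfIsCompl W C hC).symm.trans
    ((a.prodCongr b).trans (Submodule.prodEquivOfIsCompl W' C' hC'))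
  refine ⟨e, Submodule.eq_of_le_of_finrank_eq ?_ ?_⟩
  · rintro _ ⟨x, hx, rfl⟩
    have hsym : (Submodule.prodEquivOfIsCompl W C hC).symm x = (⟨x, hx⟩, 0) :=
      (LinearEquiv.symm_apply_eq _).2 (by simp)
    have : e x = (a ⟨x, hx⟩ : V) := by
      simp only [e, LinearEquiv.trans_apply, hsym]
      simp
    show e x ∈ W'
    rw [this]
    exact (a ⟨x, hx⟩).2
  · rw [LinearEquiv.finrank_map_eq, h]

/-- `psi` on the general linear group. -/
noncomputable def psiGL (ω : L → ℂ) (n : ℕ) (g : GL (Fin n) F) : ℂ :=
  psi ω (Matrix.toLin' (g : Matrix (Fin n) (Fin n) F))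

theorem isGeneralized_psiGL (ω : L →*₀ ℂ) (hω : Function.Injective ω) (n : ℕ)
    (hsplit : ∀ p : F[X], p.natDegree ≤ n → (p.map (algebraMap F L)).Splits) :
    IsGeneralizedCharacter (GL (Fin n) F) (psiGL ω n) := by
  induction n using Nat.strong_induction_on with
  | _ n ih =>
  classical
  haveI : Finite (Submodule F (Fin n → F)) := finite_submodule _
  letI : Fintype (Submodule F (Fin n → F)) := Fintype.ofFinite _
  -- the eigenvalue term
  have heig : IsGeneralizedCharacter (GL (Fin n) F)
      (fun g => eig ω (Matrix.toLin' (g : Matrix (Fin n) (Fin n) F))) := by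
    have := isGeneralized_eig ω hω (Units.coeHom (Matrix (Fin n) (Fin n) F))
      (fun a => hsplit _ (by rw [Matrix.charpoly_natDegree_eq_dim, Fintype.card_fin]))
    convert this using 1
    funext g
    rw [eig, Matrix.charpoly_toLin']
    rfl
  -- the term at the subspaces of a given dimension
  have hterm : ∀ j < n, IsGeneralizedCharacter (GL (Fin n) F) (fun g =>
      ∑ W ∈ Finset.univ.filter (fun W : Submodule F (Fin n → F) => finrank F W = j),
        psiOn ω (Matrix.toLin' (g : Matrix (Fin n) (Fin n) F)) W) := by
    intro j hj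
    by_cases hex : ∃ W : Submodule F (Fin n → F), finrank F W = j
    swap
    · push Not at hex
      simp only [Finset.filter_false_of_mem (fun W _ => hex W), Finset.sum_empty]
      exact Char.isGeneralizedCharacter_zero
    obtain ⟨W0, hW0⟩ := hex
    let act : GL (Fin n) F → ((Fin n → F) ≃ₗ[F] (Fin n → F)) := fun g =>
      LinearMap.GeneralLinearGroup.generalLinearEquiv F _ (Matrix.GeneralLinearGroup.toLin g)
    have hact : ∀ (g : GL (Fin n) F) x, act g x = Matrix.toLin' (g : Matrix (Fin n) (Fin n) F) x :=
      fun g x => rfl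
    have hmul : ∀ (g h : GL (Fin n) F), (act (g * h)).toLinearMap = (act g).toLinearMap ∘ₗ (act h).toLinearMap :=
      fun g h => LinearMap.ext fun x => by simp [hact, Units.val_mul, Matrix.toLin'_mul]
    have hone : (act 1).toLinearMap = LinearMap.id := LinearMap.ext fun x => by simp [hact]
    let P : Subgroup (GL (Fin n) F) :=
      { carrier := {g | W0.map (act g).toLinearMap = W0}
        mul_mem' := fun {g h} hg hh => by
          show W0.map (act (g * h)).toLinearMap = W0
          rw [hmul, Submodule.map_comp, hh, hg]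
        one_mem' := by show W0.map (act 1).toLinearMap = W0; rw [hone, Submodule.map_id]
        inv_mem' := fun {g} (hg : W0.map (act g).toLinearMap = W0) => by
          show W0.map (act g⁻¹).toLinearMap = W0
          conv_lhs => rw [← hg, ← Submodule.map_comp, ← hmul, inv_mul_cancel, hone, Submodule.map_id] }
    have hP : ∀ g : GL (Fin n) F, g ∈ P ↔ W0 ≤ W0.comap (Matrix.toLin' (g : Matrix _ _ F)) := by
      intro g
      constructor
      · intro (hg : W0.map (act g).toLinearMap = W0) x hx
        exact hg.le ⟨x, hx, rfl⟩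
      · intro hg
        refine Submodule.eq_of_le_of_finrank_eq ?_ (LinearEquiv.finrank_map_eq _ _)
        rintro _ ⟨x, hx, rfl⟩
        exact hg hx
    let b := Module.finBasisOfFinrankEq F W0 hW0
    let resHom : P →* Matrix (Fin j) (Fin j) F :=
      { toFun := fun g => LinearMap.toMatrix b b ((Matrix.toLin' ((g : GL (Fin n) F) : Matrix _ _ F)).restrict ((hP g).1 g.2))
        map_one' := by
          refine (congrArg _ ?_).trans (LinearMap.toMatrix_one b)
          exact LinearMap.ext fun x => Subtype.ext (by simp)
        map_mul' := fun g h => by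
          rw [← LinearMap.toMatrix_mul]
          congr 1
          exact LinearMap.ext fun x => Subtype.ext (by simp [Matrix.toLin'_mul]) }
    let θ : P → ℂ := fun g => psiGL ω j (resHom.toHomUnits g)
    have hθ : IsGeneralizedCharacter P θ :=
      (ih j hj fun p hp => hsplit p (hp.trans hj.le)).comp resHom.toHomUnits
    have hθv : ∀ (g : GL (Fin n) F) (hg : g ∈ P), θ ⟨g, hg⟩ = psiOn ω (Matrix.toLin' (g : Matrix _ _ F)) W0 := by
      intro g hg
      rw [psiOn_of ω ((hP g).1 hg)]
      refine psi_conj ω b.equivFun fun x => ?_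
      show b.equivFun _ = Matrix.toLin' (LinearMap.toMatrix b b _) (b.equivFun x)
      rw [Matrix.toLin'_apply, Basis.equivFun_apply, Basis.equivFun_apply,
        LinearMap.toMatrix_mulVec_repr]
    have hnot : ∀ g : GL (Fin n) F, g ∉ P → psiOn ω (Matrix.toLin' (g : Matrix _ _ F)) W0 = 0 :=
      fun g hg => psiOn_of_not ω fun h => hg ((hP g).2 h)
    refine Eq.subst (motive := fun f => IsGeneralizedCharacter (GL (Fin n) F) f) ?_
      (Char.isGeneralizedCharacter_indFun P hθ)
    funext g
    have hx : ∀ x : GL (Fin n) F, extendByZero P θ (x⁻¹ * g * x) =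
        psiOn ω (Matrix.toLin' (g : Matrix _ _ F)) (W0.map (act x).toLinearMap) := by
      intro x
      have hcancel : ∀ y, act x (act x⁻¹ y) = y := fun y => by
        rw [← LinearEquiv.coe_toLinearMap, ← LinearEquiv.coe_toLinearMap, ← LinearMap.comp_apply,
          ← hmul, mul_inv_cancel, hone]
        rfl
      have hconj : ∀ y, act x (Matrix.toLin' ((x⁻¹ * g * x : GL (Fin n) F) : Matrix _ _ F) y) =
          Matrix.toLin' (g : Matrix _ _ F) (act x y) := by
        intro y
        rw [← hact, ← LinearEquiv.coe_toLinearMap, ← LinearEquiv.coe_toLinearMap, ← hact,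
          ← LinearEquiv.coe_toLinearMap, ← LinearMap.comp_apply, ← LinearMap.comp_apply, ← hmul, ← hmul]
        simp [mul_assoc]
      have hval : extendByZero P θ (x⁻¹ * g * x) =
          psiOn ω (Matrix.toLin' ((x⁻¹ * g * x : GL (Fin n) F) : Matrix _ _ F)) W0 := by
        by_cases h : x⁻¹ * g * x ∈ P
        · rw [Char.extendByZero_of_mem P θ h, hθv _ h]
        · rw [Char.extendByZero_of_notMem P θ h, hnot _ h]
      rw [hval]
      set W := W0.map (act x).toLinearMap with hW
      by_cases hinv : W ≤ W.comap (Matrix.toLin' (g : Matrix _ _ F))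
      · have h0 : W0 ≤ W0.comap (Matrix.toLin' ((x⁻¹ * g * x : GL (Fin n) F) : Matrix _ _ F)) := by
          intro y hy
          obtain ⟨z, hz, hze⟩ := hinv ⟨y, hy, rfl⟩
          have : z = Matrix.toLin' ((x⁻¹ * g * x : GL (Fin n) F) : Matrix _ _ F) y :=
            (act x).injective (hze.trans (hconj y).symm)
          rwa [Submodule.mem_comap, ← this]
        rw [psiOn_of ω hinv, psiOn_of ω h0]
        refine (psi_conj ω ((act x).submoduleMap W0) ?_).symm
        intro y
        exact Subtype.ext (hconj (y : Fin n → F))
      · rw [psiOn_of_not ω hinv, psiOn_of_not ω]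
        intro h0
        refine hinv ?_
        rintro _ ⟨y, hy, rfl⟩
        exact ⟨_, h0 hy, hconj y⟩
    simp only [indFun]
    rw [Finset.sum_congr rfl fun x _ => hx x, Finset.mul_sum,
      ← Finset.sum_fiberwise_of_maps_to (t := Finset.univ.filter (fun W : Submodule F (Fin n → F) => finrank F W = j))
        (g := fun x : GL (Fin n) F => W0.map (act x).toLinearMap)
        (fun x _ => Finset.mem_filter.2 ⟨Finset.mem_univ _, (LinearEquiv.finrank_map_eq _ _).trans hW0⟩)]
    refine Finset.sum_congr rfl fun W hW => ?_
    obtain ⟨e, he⟩ := exists_equiv_map W0 W (hW0.trans (Finset.mem_filter.1 hW).2.symm)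
    set x0 : GL (Fin n) F := Matrix.GeneralLinearGroup.toLin.symm
      ((LinearMap.GeneralLinearGroup.generalLinearEquiv F _).symm e) with hx0def
    have hx0 : act x0 = e := by simp [act, hx0def]
    rw [Finset.sum_congr rfl (g := fun _ => (Nat.card P : ℂ)⁻¹ * psiOn ω (Matrix.toLin' (g : Matrix _ _ F)) W)
      (fun x hx => by rw [(Finset.mem_filter.1 hx).2]), Finset.sum_const, nsmul_eq_mul, ← mul_assoc]
    have hcard : (Finset.univ.filter fun x : GL (Fin n) F => W0.map (act x).toLinearMap = W).card =
        Nat.card P := by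
      rw [← Fintype.card_subtype, ← Nat.card_eq_fintype_card]
      refine Nat.card_congr ((Equiv.mulLeft x0⁻¹).subtypeEquiv fun x => ?_)
      show W0.map (act x).toLinearMap = W ↔ W0.map (act (x0⁻¹ * x)).toLinearMap = W0
      have hmap : W0.map (act x).toLinearMap =
          (W0.map (act (x0⁻¹ * x)).toLinearMap).map (act x0).toLinearMap := by
        rw [← Submodule.map_comp, ← hmul, mul_inv_cancel_left]
      rw [hmap, ← he, hx0]
      exact ⟨fun h => Submodule.map_injective_of_injective e.injective h, fun h => by rw [h]⟩
    rw [hcard, mul_inv_cancel₀ (Nat.cast_ne_zero.2 Nat.card_pos.ne'), one_mul]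
  have hsum : psiGL ω n = fun g : GL (Fin n) F =>
      eig ω (Matrix.toLin' (g : Matrix (Fin n) (Fin n) F)) - ∑ j ∈ Finset.range n,
        ∑ W ∈ Finset.univ.filter (fun W : Submodule F (Fin n → F) => finrank F W = j),
          psiOn ω (Matrix.toLin' (g : Matrix (Fin n) (Fin n) F)) W := by
    funext g
    rw [← sum_psiOn, ← Finset.sum_fiberwise_of_maps_to (t := Finset.range (n + 1))
      (g := fun W : Submodule F (Fin n → F) => finrank F W) (fun W _ => Finset.mem_range.2
        (Nat.lt_succ_of_le ((Submodule.finrank_le W).trans (Module.finrank_fin_fun F).le))),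
      Finset.sum_range_succ, add_sub_cancel_left]
    rw [show Finset.univ.filter (fun W : Submodule F (Fin n → F) => finrank F W = n) = {⊤} by
      ext W
      simp only [Finset.mem_filter, Finset.mem_univ, true_and, Finset.mem_singleton]
      exact ⟨fun h => Submodule.eq_top_of_finrank_eq (h.trans (Module.finrank_fin_fun F).symm),
        fun h => by rw [h, finrank_top, Module.finrank_fin_fun]⟩,
      Finset.sum_singleton, psiOn_top]
    rfl
  rw [hsum]
  refine heig.sub ?_
  have h := Cfsg.IsGeneralizedCharacter.sum (Finset.range n) (fun j (g : GL (Fin n) F) =>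
      ∑ W ∈ Finset.univ.filter (fun W : Submodule F (Fin n → F) => finrank F W = j),
        psiOn ω (Matrix.toLin' (g : Matrix (Fin n) (Fin n) F)) W) fun j hj => hterm j (Finset.mem_range.1 hj)
  convert h using 1
  funext g
  rw [Finset.sum_apply]

end Cfsg.Lib.Cusp
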