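import Cfsg.Agent.Lib.Linear.Cusp.Inner
import Cfsg.Agent.Lib.Char.Basic
import Cfsg.Agent.Lib.Linear.Cusp.Virtual
import Cfsg.Agent.Lib.Char.SignedIrr

/-!
# Cuspidal characters of the general linear groups
-/

set_option autoImplicit false
set_option linter.unusedSectionVars false
set_option linter.style.haveILetI false
set_option maxHeartbeats 1000000

namespace Cfsg.Lib.Cusp

open Module Polynomial Cfsg Matrix
open scoped ComplexConjugate IntermediateField

universe u

variable {F : Type u} [Field F] [Fintype F] [DecidableEq F]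

/-- A finite extension in which the polynomials of degree at most `n` split. -/
theorem exists_split_field (F : Type u) [Field F] [Fintype F] (n : ℕ) :
    ∃ (L : Type u) (_ : Field L) (_ : Fintype L) (_ : Algebra F L),
      ∀ p : F[X], p.natDegree ≤ n → (p.map (algebraMap F L)).Splits := by
  set P : F[X] := X ^ Fintype.card F ^ n.factorial - X with hP
  haveI : Module.Finite F P.SplittingField := Polynomial.IsSplittingField.finiteDimensional _ P
  haveI : Finite P.SplittingField := Module.finite_of_finite F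
  refine ⟨P.SplittingField, inferInstance, Fintype.ofFinite _, inferInstance, fun p => ?_⟩
  induction hd : p.natDegree using Nat.strong_induction_on generalizing p with
  | _ d ih =>
  intro hdn
  subst hd
  by_cases h0 : p.natDegree = 0
  · exact (Splits.of_natDegree_le_one (natDegree_map_le.trans (by omega)))
  obtain ⟨f, hfm, hfirr, hfd⟩ := Polynomial.exists_monic_irreducible_factor p (fun hu => h0 (natDegree_eq_zero_of_isUnit hu))
  obtain ⟨c, rfl⟩ := hfd
  have hc0 : c ≠ 0 := by rintro rfl; simp at h0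
  have hdeg : (f * c).natDegree = f.natDegree + c.natDegree := natDegree_mul hfm.ne_zero hc0
  have hPne : P ≠ 0 := FiniteField.X_pow_card_pow_sub_X_ne_zero F (Nat.factorial_ne_zero n) Fintype.one_lt_card
  have hfP : f ∣ P := by
    have := hfirr.natDegree_dvd_iff_dvd_X_pow_card_pow_sub_X.1
      (Nat.dvd_factorial hfirr.natDegree_pos (show f.natDegree ≤ n by omega))
    rwa [Nat.card_eq_fintype_card] at this
  rw [Polynomial.map_mul]
  exact ((SplittingField.splits P).of_dvd ((Polynomial.map_ne_zero_iff (algebraMap F _).injective).2 hPne)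
    (map_dvd (mapRingHom _) hfP)).mul
    (ih c.natDegree (by have := hfirr.natDegree_pos; omega) c rfl (by omega))

/-- The injective multiplicative maps to the complex numbers. -/
theorem exists_inj_hom (L : Type u) [Field L] [Fintype L] :
    ∃ ω : L →*₀ ℂ, Function.Injective ω := by
  classical
  obtain ⟨g, hg⟩ := IsCyclic.exists_generator (α := Lˣ)
  haveI : NeZero (Nat.card Lˣ) := ⟨Nat.card_pos.ne'⟩
  obtain ⟨ζ, hζ⟩ : ∃ ζ : ℂ, IsPrimitiveRoot ζ (Nat.card Lˣ) :=
    ⟨_, Complex.isPrimitiveRoot_exp _ (NeZero.ne _)⟩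
  let z : ℂˣ := (hζ.isUnit (NeZero.ne _)).unit
  have hz : orderOf z = orderOf g := by
    rw [orderOf_eq_card_of_forall_mem_zpowers hg, hζ.eq_orderOf, ← orderOf_units]
    rfl
  let φ : Lˣ →* ℂˣ := monoidHomOfForallMemZpowers hg hz.dvd
  have hφg : φ g = z := monoidHomOfForallMemZpowers_apply_gen hg hz.dvd
  have hφinj : Function.Injective φ := by
    rw [injective_iff_map_eq_one]
    intro a ha
    obtain ⟨i, rfl⟩ := hg a
    simp only [map_zpow, hφg] at ha
    rw [← orderOf_dvd_iff_zpow_eq_one, hz, orderOf_dvd_iff_zpow_eq_one] at ha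
    exact ha
  let f : L → ℂ := fun a => if h : a = 0 then 0 else (φ (Units.mk0 a h) : ℂ)
  refine ⟨{ toFun := f, map_zero' := dif_pos rfl, map_one' := ?_, map_mul' := ?_ }, ?_⟩
  · simp [f]
  · intro a b
    by_cases ha : a = 0
    · simp [f, ha]
    by_cases hb : b = 0
    · simp [f, hb]
    simp only [f, dif_neg ha, dif_neg hb, dif_neg (mul_ne_zero ha hb)]
    rw [← Units.val_mul, ← map_mul, Units.mk0_mul a b (mul_ne_zero ha hb)]
  · intro a b (hab : f a = f b)
    by_cases ha : a = 0
    · by_cases hb : b = 0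
      · rw [ha, hb]
      · simp only [f, dif_pos ha, dif_neg hb] at hab
        exact absurd hab.symm (Units.ne_zero _)
    · by_cases hb : b = 0
      · simp only [f, dif_neg ha, dif_pos hb] at hab
        exact absurd hab (Units.ne_zero _)
      · simp only [f, dif_neg ha, dif_neg hb] at hab
        simpa using congrArg Units.val (hφinj (Units.ext hab))

/-- The standard subspace of the first `m` coordinates. -/
def coordSpace (n m : ℕ) : Submodule F (Fin n → F) where
  carrier := {v | ∀ i : Fin n, m ≤ i.val → v i = 0}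
  add_mem' := fun {a b} ha hb i hi => by simp [ha i hi, hb i hi]
  zero_mem' := fun i _ => rfl
  smul_mem' := fun c a ha i hi => by simp [ha i hi]

open Classical in
theorem sum_block_eq_zero {L : Type u} [Field L] [Fintype L] [Algebra F L] (ω' : L → ℂ)
    {n m : ℕ} (hm : 0 < m) (hmn : m < n) :
    (∑ g : GL (Fin n) F,
      if (∀ i j : Fin n, ¬ (i.val < m ∧ m ≤ j.val) → (g : Matrix (Fin n) (Fin n) F) i j = (1 : Matrix (Fin n) (Fin n) F) i j)
      then psiGL ω' n g else 0) = 0 := by
  classical
  set W : Submodule F (Fin n → F) := coordSpace n m with hW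
  haveI : Finite (((Fin n → F) ⧸ W) →ₗ[F] W) := finite_hom _ _
  letI : Fintype (((Fin n → F) ⧸ W) →ₗ[F] W) := Fintype.ofFinite _
  have hsq : ∀ h k, shift W h * shift W k = 0 := fun h k => LinearMap.ext fun x => by
    rw [End.mul_apply]
    exact shift_apply_mem W h (k (W.mkQ x)).2
  have hu : ∀ h, (1 + shift W h) * (1 - shift W h) = 1 ∧ (1 - shift W h) * (1 + shift W h) = 1 := fun h => by
    constructor <;> simp [add_mul, mul_add, sub_mul, mul_sub, hsq h h]
  let U : (((Fin n → F) ⧸ W) →ₗ[F] W) → GL (Fin n) F := fun h =>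
    { val := LinearMap.toMatrix' (1 + shift W h)
      inv := LinearMap.toMatrix' (1 - shift W h)
      val_inv := by rw [← LinearMap.toMatrix'_mul, (hu h).1, LinearMap.toMatrix'_one]
      inv_val := by rw [← LinearMap.toMatrix'_mul, (hu h).2, LinearMap.toMatrix'_one] }
  have hUv : ∀ h, Matrix.toLin' ((U h : GL (Fin n) F) : Matrix (Fin n) (Fin n) F) = 1 + shift W h :=
    fun h => Matrix.toLin'_toMatrix' _
  rw [← Finset.sum_filter, show Finset.univ.filter (fun g : GL (Fin n) F => ∀ i j : Fin n,
      ¬ (i.val < m ∧ m ≤ j.val) → (g : Matrix (Fin n) (Fin n) F) i j = (1 : Matrix (Fin n) (Fin n) F) i j) =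
      Finset.univ.image U from ?_, Finset.sum_image ?_]
  · rw [Finset.sum_congr rfl fun h _ => show psiGL ω' n (U h) = psi ω' (1 + shift W h) by rw [psiGL, hUv]]
    refine sum_psi_shift ω' W (fun x hx => hx) ?_ ?_
    · intro h0
      have : (Pi.single (⟨0, by omega⟩ : Fin n) (1 : F)) ∈ W := fun i hi =>
        Pi.single_eq_of_ne (fun h => by rw [h] at hi; simp at hi; omega) _
      rw [h0, Submodule.mem_bot] at this
      exact (one_ne_zero : (1 : F) ≠ 0) (by simpa using congrFun this (⟨0, by omega⟩ : Fin n))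
    · intro h0
      have : (fun _ => (1 : F)) ∈ W := h0 ▸ Submodule.mem_top
      exact (one_ne_zero : (1 : F) ≠ 0) (this ⟨m, hmn⟩ le_rfl)
  · intro a _ b _ hab
    have : shift W a = shift W b := by
      have := congrArg (fun g : GL (Fin n) F => Matrix.toLin' (g : Matrix (Fin n) (Fin n) F)) hab
      simpa [hUv] using this
    refine LinearMap.ext fun x => Subtype.ext ?_
    obtain ⟨x, rfl⟩ := Submodule.Quotient.mk_surjective _ x
    exact LinearMap.congr_fun this x
  · ext g
    simp only [Finset.mem_filter, Finset.mem_univ, true_and, Finset.mem_image]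
    constructor
    · intro hg
      set D : End F (Fin n → F) := Matrix.toLin' ((g : Matrix (Fin n) (Fin n) F) - 1) with hD
      have hker : W ≤ LinearMap.ker D := by
        intro x hx
        refine LinearMap.mem_ker.2 (funext fun i => ?_)
        rw [hD, Matrix.toLin'_apply, Matrix.mulVec, dotProduct, Pi.zero_apply]
        refine Finset.sum_eq_zero fun j _ => ?_
        by_cases hj : m ≤ j.val
        · rw [hx j hj, mul_zero]
        · rw [Matrix.sub_apply, hg i j (fun h => hj h.2), sub_self, zero_mul]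
      have hrange : ∀ x, D x ∈ W := by
        intro x i hi
        rw [hD, Matrix.toLin'_apply, Matrix.mulVec, dotProduct]
        refine Finset.sum_eq_zero fun j _ => ?_
        rw [Matrix.sub_apply, hg i j (fun h => by omega), sub_self, zero_mul]
      refine ⟨LinearMap.codRestrict W (W.liftQ D hker) (fun x => ?_), Units.ext ?_⟩
      · obtain ⟨x, rfl⟩ := Submodule.Quotient.mk_surjective _ x
        exact hrange x
      · apply Matrix.toLin'.injective
        rw [hUv]
        refine LinearMap.ext fun x => ?_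
        simp [shift_apply, hD]
    · rintro ⟨h, rfl⟩ i j hij
      have he : ((U h : GL (Fin n) F) : Matrix (Fin n) (Fin n) F) i j =
          (1 : Matrix (Fin n) (Fin n) F) i j + shift W h (Pi.single j 1) i := by
        show LinearMap.toMatrix' (1 + shift W h) i j = _
        rw [map_add, LinearMap.toMatrix'_one, Matrix.add_apply, LinearMap.toMatrix'_apply]
      rw [he, add_eq_left]
      by_cases hi : m ≤ i.val
      · exact (h (W.mkQ (Pi.single j 1))).2 i hi
      · have hj : j.val < m := by omega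
        have : (Pi.single j (1 : F)) ∈ W := fun a ha =>
          Pi.single_eq_of_ne (fun h => by rw [h] at ha; omega) _
        rw [shift_apply_mem W h this, Pi.zero_apply]

/-- The inner product on the group. -/
theorem classInner_psiGL {L : Type u} [Field L] [Fintype L] [DecidableEq L] [Algebra F L] (ω₁ ω₂ : L → ℂ) {n : ℕ} (hn : 0 < n) :
    classInner (psiGL (F := F) ω₁ n) (psiGL ω₂ n) = ((Fintype.card F : ℂ) ^ n - 1)⁻¹ *
        ∑ a ∈ Finset.univ.filter (fun a : L => a ≠ 0 ∧ a ^ Fintype.card F ^ n = a),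
          conj (ω₂ a) * ∑ i ∈ Finset.range n, ω₁ (a ^ Fintype.card F ^ i) := by
  classical
  haveI : Finite (End F (Fin n → F)) := finite_hom _ _
  letI : Fintype (End F (Fin n → F)) := Fintype.ofFinite _
  have hcard : Nat.card (GL (Fin n) F) = Nat.card {s : Fin n → (Fin n → F) // LinearIndependent F s} := by
    rw [Matrix.card_GL_field, card_linearIndependent (Module.finrank_fin_fun F).ge]
    simp
  have hunit : ∀ A : Matrix (Fin n) (Fin n) F, (Matrix.toLin' A).charpoly.coeff 0 ≠ 0 ↔ IsUnit A := by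
    intro A
    rw [Matrix.charpoly_toLin', Matrix.isUnit_iff_isUnit_det, isUnit_iff_ne_zero, Matrix.det_eq_sign_charpoly_coeff]
    constructor
    · exact fun h => mul_ne_zero (pow_ne_zero _ (neg_ne_zero.2 one_ne_zero)) h
    · exact fun h => right_ne_zero_of_mul h
  have hsum : ∑ g : GL (Fin n) F, psiGL ω₁ n g * conj (psiGL ω₂ n g) =
      ∑ g ∈ Finset.univ.filter (fun g : End F (Fin n → F) => g.charpoly.coeff 0 ≠ 0),
        psi ω₁ g * conj (psi ω₂ g) := by
    refine Finset.sum_bij (fun g _ => Matrix.toLin' (g : Matrix (Fin n) (Fin n) F)) ?_ ?_ ?_ fun g _ => rfl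
    · intro g _
      simp only [Finset.mem_filter, Finset.mem_univ, true_and]
      exact (hunit _).2 g.isUnit
    · intro a _ b _ hab
      exact Units.ext (Matrix.toLin'.injective hab)
    · intro g hg
      simp only [Finset.mem_filter, Finset.mem_univ, true_and] at hg
      rw [← Matrix.toLin'_toMatrix' g, hunit] at hg
      exact ⟨hg.unit, Finset.mem_univ _, by simp⟩
  have key := sum_psi_mul_conj_eq (V := Fin n → F) ω₁ ω₂ hn (Module.finrank_fin_fun F)
  rw [classInner, hsum]
  refine (congrArg _ (Eq.trans (Finset.sum_congr ?_ fun _ _ => rfl) key)).trans ?_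
  · ext g; simp
  rw [← hcard, ← mul_assoc,
    div_eq_mul_inv, ← mul_assoc, inv_mul_cancel₀ (Nat.cast_ne_zero.2 Nat.card_pos.ne'), one_mul]
  simp

theorem psiGL_one {L : Type u} [Field L] [Fintype L] [Algebra F L] (ω : L →*₀ ℂ) {n : ℕ} (hn : 0 < n) :
    psiGL (F := F) ω n 1 = ∏ i ∈ Finset.Ico 1 n, (1 - (Fintype.card F : ℂ) ^ i) := by
  have h := psi_of_aeval_eq_zero (g := (1 : End F (Fin n → F))) (ω := (ω : L → ℂ)) (f := X - C (1 : F))
    (monic_X_sub_C 1) (irreducible_X_sub_C 1) (m := n) (by rw [natDegree_X_sub_C, mul_one, Module.finrank_fin_fun]) (by simp)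
  rw [psiGL, Units.val_one, Matrix.toLin'_one]
  refine h.trans ?_
  rw [natDegree_X_sub_C, pow_one, ssVal, if_neg hn.ne', rootSum, Polynomial.map_sub, map_X, map_C, map_one,
    roots_X_sub_C]
  simp

theorem irr_ne_neg {G : Type u} [Group G] [Fintype G] {f : G → ℂ} (hf : IsGeneralizedCharacter G f)
    (h1 : classInner f f = 1) (hpos : ∃ d : ℕ, 0 < d ∧ f 1 = d) : IsIrrCharacter G f := by
  obtain ⟨ε, μ, hε, rfl⟩ := Char.exists_signed_irr_of_norm_one hf h1
  rcases hε with rfl | rfl
  · simpa using μ.2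
  · exfalso
    obtain ⟨d, hd, he⟩ := hpos
    obtain ⟨k, hk⟩ : ∃ k : ℕ, (μ : G → ℂ) 1 = k := by
      obtain ⟨k, ρ, -, hρ⟩ := μ.2
      exact ⟨k, by rw [← hρ]; simp⟩
    simp [hk] at he
    have : ((k + d : ℕ) : ℂ) = ((0 : ℕ) : ℂ) := by push_cast; linear_combination -he
    have := Nat.cast_injective this
    omega

open Classical in
theorem card_cuspidal (n : ℕ) (hn : 2 ≤ n) :
    Nat.totient (Fintype.card F ^ n - 1) / n ≤
      Nat.card {χ : Cfsg.IrrCharacter (GL (Fin n) F) //
        (χ : GL (Fin n) F → ℂ) 1 = ∏ i ∈ Finset.Ico 1 n, ((Fintype.card F : ℂ) ^ i - 1) ∧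
        ∀ m : ℕ, 0 < m → m < n →
          (∑ g : GL (Fin n) F,
            if (∀ i j : Fin n, ¬ (i.val < m ∧ m ≤ j.val) → (g : Matrix (Fin n) (Fin n) F) i j = (1 : Matrix (Fin n) (Fin n) F) i j)
            then (χ : GL (Fin n) F → ℂ) g else 0) = 0} := by
  obtain ⟨L, hLf, hLfin, hLalg, hsplit⟩ := exists_split_field F n
  obtain ⟨ω, hω⟩ := exists_inj_hom L
  set q := Fintype.card F with hq
  set M := q ^ n - 1 with hM
  have hq2 : 2 ≤ q := Fintype.one_lt_card
  have hqn : 2 ≤ q ^ n := hq2.trans (Nat.le_self_pow (by omega) q)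
  -- a generator of the elements fixed by the `q ^ n`-th power
  have hdvd : M ∣ Nat.card Lˣ := by
    obtain ⟨f, hfm, hfd, hfirr⟩ : ∃ f : F[X], f.Monic ∧ f.natDegree = n ∧ Irreducible f := by
      obtain ⟨p, hp⟩ := CharP.exists F
      haveI : Fact p.Prime := ⟨CharP.char_is_prime F p⟩
      haveI : NeZero n := ⟨by omega⟩
      obtain ⟨a, ha⟩ := Field.exists_primitive_element F (FiniteField.Extension F p n)
      refine ⟨minpoly F a, minpoly.monic (Algebra.IsIntegral.isIntegral a), ?_,
        minpoly.irreducible (Algebra.IsIntegral.isIntegral a)⟩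
      rw [← IntermediateField.adjoin.finrank (Algebra.IsIntegral.isIntegral a), ha,
        IntermediateField.finrank_top', FiniteField.finrank_extension]
    obtain ⟨a, ha⟩ := (hsplit f hfd.le).exists_eval_eq_zero (by
      rw [degree_map]; exact (degree_pos_of_irreducible hfirr).ne')
    rw [eval_map, ← aeval_def] at ha
    haveI : Algebra.IsAlgebraic F L := Algebra.IsAlgebraic.of_finite F L
    have hfa : finrank F F⟮a⟯ = n := by
      rw [IntermediateField.adjoin.finrank (Algebra.IsIntegral.isIntegral a),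
        ← minpoly.eq_of_irreducible_of_monic hfirr ha hfm, hfd]
    have hd : n ∣ finrank F L := hfa ▸ ⟨finrank F⟮a⟯ L, (Module.finrank_mul_finrank F F⟮a⟯ L).symm⟩
    rw [Nat.card_units, Nat.card_eq_fintype_card, Module.card_eq_pow_finrank (K := F) (V := L)]
    exact Nat.pow_sub_one_dvd_pow_sub_one _ hd
  obtain ⟨g, hg⟩ := IsCyclic.exists_generator (α := Lˣ)
  have hgo : orderOf g = Nat.card Lˣ := orderOf_eq_card_of_forall_mem_zpowers hg
  set N := Nat.card Lˣ with hN
  obtain ⟨c, hc⟩ := hdvd
  set e : Lˣ := g ^ c with he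
  have heo : orderOf e = M := by
    rw [he, orderOf_pow' g (by rintro rfl; rw [mul_zero] at hc; exact Nat.card_pos.ne' hc), hgo,
      Nat.gcd_eq_right ⟨M, hc.trans (mul_comm _ _)⟩, hc]
    exact Nat.mul_div_cancel _ (Nat.pos_of_ne_zero (by rintro rfl; rw [mul_zero] at hc; exact Nat.card_pos.ne' hc))
  set x : ℂ := ω (e : L) with hx
  have hxprim : IsPrimitiveRoot x M := by
    rw [← heo, ← orderOf_units, ← orderOf_injective ω.toMonoidHom hω (e : L)]
    exact IsPrimitiveRoot.orderOf _
  have hM0 : 0 < M := by omega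
  -- the characters
  haveI : NeZero N := ⟨Nat.card_pos.ne'⟩
  haveI : NeZero M := ⟨hM0.ne'⟩
  have hMN : M ∣ N := ⟨c, hc⟩
  have hlift : ∀ k : (ZMod M)ˣ, ∃ k' : ℕ, k'.Coprime N ∧ (k' : ZMod M) = (k : ZMod M) := by
    intro k
    obtain ⟨k', hk'⟩ := ZMod.unitsMap_surjective hMN k
    refine ⟨((k' : ZMod N)).val, ZMod.val_coe_unit_coprime k', ?_⟩
    rw [← hk', ZMod.unitsMap_def, Units.coe_map, ZMod.natCast_val]
    rfl
  choose kk hkk hkkM using hlift
  let ωk : (ZMod M)ˣ → (L →*₀ ℂ) := fun k =>
    { toFun := fun a => ω a ^ kk k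
      map_zero' := by
        have : kk k ≠ 0 := fun h0 => by
          have := hkk k
          rw [h0, Nat.coprime_zero_left] at this
          have h2 : M = 1 := Nat.dvd_one.1 (this ▸ hMN)
          have h3 : 2 ^ 2 ≤ q ^ n := (Nat.pow_le_pow_left hq2 2).trans (Nat.pow_le_pow_right (by omega) hn)
          omega
        simp [zero_pow this]
      map_one' := by simp
      map_mul' := fun a b => by simp [mul_pow] }
  have hωk : ∀ k, Function.Injective (ωk k) := by
    intro k a b (hab : ω a ^ kk k = ω b ^ kk k)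
    rw [← map_pow, ← map_pow] at hab
    have hab' := hω hab
    by_cases ha : a = 0
    · subst ha
      have h0 : kk k ≠ 0 := fun h0 => by
        have := (ωk k).map_zero
        simp [ωk, h0] at this
      rw [zero_pow h0] at hab'
      exact (eq_zero_of_pow_eq_zero hab'.symm).symm
    · by_cases hb : b = 0
      · subst hb
        have h0 : kk k ≠ 0 := fun h0 => by
          have := (ωk k).map_zero
          simp [ωk, h0] at this
        rw [zero_pow h0] at hab'
        exact eq_zero_of_pow_eq_zero hab'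
      · have := (powCoprime (G := Lˣ) (Nat.Coprime.symm (hkk k))).injective
          (a₁ := Units.mk0 a ha) (a₂ := Units.mk0 b hb) (Units.ext (by simpa using hab'))
        simpa using congrArg Units.val this
  set χ : (ZMod M)ˣ → (GL (Fin n) F → ℂ) := fun k g => (-1) ^ (n - 1) * psiGL (ωk k) n g with hχ
  have hgen : ∀ k, IsGeneralizedCharacter (GL (Fin n) F) (χ k) := by
    intro k
    have := (isGeneralized_psiGL (F := F) (ωk k) (hωk k) n hsplit).intCast_smul ((-1) ^ (n - 1))
    convert this using 1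
    funext g
    simp [hχ]
  have hinner : ∀ k l, classInner (χ k) (χ l) = (((Finset.range n).filter fun i =>
      (k : ZMod M) * (q : ZMod M) ^ i = (l : ZMod M)).card : ℂ) := by
    intro k l
    have hEe : Finset.univ.filter (fun a : L => a ≠ 0 ∧ a ^ q ^ n = a) =
        (Finset.range M).image (fun j => ((e ^ j : Lˣ) : L)) := by
      symm
      refine Finset.eq_of_subset_of_card_le ?_ ?_
      · intro a ha
        obtain ⟨j, -, rfl⟩ := Finset.mem_image.1 ha
        refine Finset.mem_filter.2 ⟨Finset.mem_univ _, Units.ne_zero _, ?_⟩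
        rw [← Units.val_pow_eq_pow_val]
        congr 1
        have h1 : e ^ M = 1 := heo ▸ pow_orderOf_eq_one e
        rw [show q ^ n = M + 1 by omega, pow_succ, ← pow_mul, mul_comm j, pow_mul, h1, one_pow, one_mul]
      · rw [Finset.card_image_of_injOn (fun i hi j hj hij => by
          refine pow_injOn_Iio_orderOf (x := e) ?_ ?_ (Units.ext hij)
          · simpa [heo] using hi
          · simpa [heo] using hj), Finset.card_range]
        have hne : (X ^ M - 1 : L[X]) ≠ 0 := X_pow_sub_C_ne_zero hM0 1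
        calc _ ≤ (X ^ M - 1 : L[X]).roots.toFinset.card := Finset.card_le_card fun a ha => by
              obtain ⟨-, ha0, hae⟩ := Finset.mem_filter.1 ha
              rw [Multiset.mem_toFinset, mem_roots hne]
              have : a * (a ^ M - 1) = 0 := by
                rw [mul_sub, mul_one, ← pow_succ', show M + 1 = q ^ n by omega, hae, sub_self]
              simpa using (mul_eq_zero.1 this).resolve_left ha0
          _ ≤ (X ^ M - 1 : L[X]).natDegree := (Multiset.toFinset_card_le _).trans (card_roots' _)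
          _ = M := natDegree_X_pow_sub_C
    have hfac : classInner (χ k) (χ l) = classInner (psiGL (F := F) (ωk k) n) (psiGL (ωk l) n) := by
      simp only [classInner, hχ]
      congr 1
      refine Finset.sum_congr rfl fun g _ => ?_
      rw [map_mul, map_pow, map_neg, map_one,
        mul_mul_mul_comm, ← mul_pow, neg_one_mul, neg_neg, one_pow, one_mul]
    have hconj : ∀ j : ℕ, conj (x ^ j) = (x ^ j)⁻¹ := by
      intro j
      refine (Complex.inv_eq_conj ?_).symm
      rw [norm_pow, Complex.norm_eq_one_of_pow_eq_one hxprim.pow_eq_one hM0.ne', one_pow]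
    rw [hfac, classInner_psiGL _ _ (by omega), hEe, Finset.sum_image (fun i hi j hj hij => by
      refine pow_injOn_Iio_orderOf (x := e) ?_ ?_ (Units.ext hij)
      · simpa [heo] using hi
      · simpa [heo] using hj)]
    simp only [Finset.mul_sum]
    rw [Finset.sum_comm, Finset.card_filter, Nat.cast_sum]
    refine Finset.sum_congr rfl fun i _ => ?_
    set y : ℂ := x ^ (kk k * q ^ i) * (x ^ kk l)⁻¹ with hy
    have hterm : ∀ j, conj (ωk l ((e ^ j : Lˣ) : L)) * ωk k (((e ^ j : Lˣ) : L) ^ q ^ i) = y ^ j := by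
      intro j
      show conj (ω ((e ^ j : Lˣ) : L) ^ kk l) * ω (((e ^ j : Lˣ) : L) ^ q ^ i) ^ kk k = _
      rw [Units.val_pow_eq_pow_val, map_pow ω _ (q ^ i), map_pow ω _ j, ← hx, ← pow_mul x j (kk l), hconj, hy,
        mul_pow, inv_pow, ← pow_mul, ← pow_mul, ← pow_mul, ← pow_mul]
      ring_nf
    have hy1 : y = 1 ↔ (k : ZMod M) * (q : ZMod M) ^ i = (l : ZMod M) := by
      rw [hy, mul_inv_eq_one₀ (pow_ne_zero _ (hxprim.ne_zero hM0.ne')), ← hkkM, ← hkkM l,
        ← Nat.cast_pow, ← Nat.cast_mul, ZMod.natCast_eq_natCast_iff']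
      constructor
      · intro h
        rw [hxprim.eq_orderOf] at hM0 ⊢
        exact (IsOfFinOrder.pow_eq_pow_iff_modEq (isOfFinOrder_iff_pow_eq_one.2 ⟨_, hM0, pow_orderOf_eq_one x⟩)).1 h
      · intro h
        rw [hxprim.eq_orderOf] at hM0 h
        exact (IsOfFinOrder.pow_eq_pow_iff_modEq (isOfFinOrder_iff_pow_eq_one.2 ⟨_, hM0, pow_orderOf_eq_one x⟩)).2 h
    rw [Finset.sum_congr rfl fun j _ => by rw [hterm j]]
    have hq1 : (q : ℂ) ^ n - 1 = (M : ℂ) := by rw [hM, Nat.cast_sub (by omega), Nat.cast_pow, Nat.cast_one]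
    rw [← Finset.mul_sum, hq1]
    by_cases h : y = 1
    · rw [if_pos (hy1.1 h)]
      simp [h, inv_mul_cancel₀ (Nat.cast_ne_zero.2 hM0.ne' : (M : ℂ) ≠ 0)]
    · rw [if_neg (fun h' => h (hy1.2 h')), geom_sum_eq h, Nat.cast_zero]
      have : y ^ M = 1 := by
        rw [hy, mul_pow, inv_pow, pow_right_comm, pow_right_comm x (kk l), hxprim.pow_eq_one, one_pow, one_pow,
          inv_one, mul_one]
      simp [this]
  have hself : ∀ k, classInner (χ k) (χ k) = 1 := by
    intro k
    rw [hinner, show ((Finset.range n).filter fun i => (k : ZMod M) * (q : ZMod M) ^ i = (k : ZMod M)) = {0} from ?_,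
      Finset.card_singleton, Nat.cast_one]
    ext i
    simp only [Finset.mem_filter, Finset.mem_range, Finset.mem_singleton]
    constructor
    · rintro ⟨hi, he'⟩
      replace he' := k.isUnit.mul_right_injective.eq_iff.1 (he'.trans (mul_one (k : ZMod M)).symm)
      rw [← Nat.cast_pow, ← Nat.cast_one, ZMod.natCast_eq_natCast_iff'] at he'
      by_contra hi0
      have h1 : 2 ≤ q ^ i := hq2.trans (Nat.le_self_pow hi0 q)
      have h2 : q ^ i * 2 ≤ q ^ n :=
        (Nat.mul_le_mul_left _ hq2).trans (by rw [← pow_succ]; exact Nat.pow_le_pow_right (by omega) hi)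
      rw [Nat.mod_eq_of_lt (by omega), Nat.mod_eq_of_lt (by omega)] at he'
      omega
    · rintro rfl
      exact ⟨by omega, by simp⟩
  have hone : ∀ k, χ k 1 = ∏ i ∈ Finset.Ico 1 n, ((q : ℂ) ^ i - 1) := by
    intro k
    simp only [hχ]
    rw [psiGL_one (ωk k) (by omega), show ((-1 : ℂ)) ^ (n - 1) = ∏ _i ∈ Finset.Ico 1 n, (-1 : ℂ) by simp,
      ← Finset.prod_mul_distrib]
    exact Finset.prod_congr rfl fun i _ => by rw [← hq]; ring
  have hirr : ∀ k, IsIrrCharacter (GL (Fin n) F) (χ k) := by
    intro k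
    refine irr_ne_neg (hgen k) (hself k) ⟨∏ i ∈ Finset.Ico 1 n, (q ^ i - 1), ?_, ?_⟩
    · refine Finset.prod_pos fun i hi => ?_
      have : 2 ≤ q ^ i := hq2.trans (Nat.le_self_pow (by have := (Finset.mem_Ico.1 hi).1; omega) q)
      omega
    · rw [hone, Nat.cast_prod]
      refine Finset.prod_congr rfl fun i hi => ?_
      rw [Nat.cast_sub (Nat.one_le_pow _ _ (by omega)), Nat.cast_pow, Nat.cast_one]
  haveI : Finite (IrrCharacter (GL (Fin n) F)) := inferInstance
  set S := {χ : Cfsg.IrrCharacter (GL (Fin n) F) //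
        (χ : GL (Fin n) F → ℂ) 1 = ∏ i ∈ Finset.Ico 1 n, ((Fintype.card F : ℂ) ^ i - 1) ∧
        ∀ m : ℕ, 0 < m → m < n →
          (∑ g : GL (Fin n) F,
            if (∀ i j : Fin n, ¬ (i.val < m ∧ m ≤ j.val) → (g : Matrix (Fin n) (Fin n) F) i j = (1 : Matrix (Fin n) (Fin n) F) i j)
            then (χ : GL (Fin n) F → ℂ) g else 0) = 0}
  letI : Fintype S := Fintype.ofFinite _
  let Φ : (ZMod M)ˣ → S := fun k => ⟨⟨χ k, hirr k⟩, hone k, fun m hm hmn => by
    have := sum_block_eq_zero (F := F) (ωk k : L → ℂ) hm hmn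
    simp only [hχ]
    rw [Finset.sum_congr rfl fun g _ => show (if _ then (-1 : ℂ) ^ (n - 1) * psiGL (ωk k) n g else 0) =
      (-1 : ℂ) ^ (n - 1) * if _ then psiGL (ωk k) n g else 0 from (mul_ite_zero _ _ _).symm,
      ← Finset.mul_sum, this, mul_zero]⟩
  rw [← ZMod.card_units_eq_totient, Nat.card_eq_fintype_card]
  refine Nat.div_le_of_le_mul ?_
  rw [← Finset.card_univ, ← Finset.card_univ]
  refine Finset.card_le_mul_card_image_of_maps_to (f := Φ) (fun _ _ => Finset.mem_univ _) n fun s _ => ?_
  rcases (Finset.univ.filter fun k => Φ k = s).eq_empty_or_nonempty with h | ⟨k0, hk0⟩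
  · simp [h]
  refine (Finset.card_le_card_of_surjOn (s := Finset.range n)
    (fun i => k0 * (if h : IsUnit (q : ZMod M) then h.unit ^ i else 1)) ?_).trans_eq (Finset.card_range n)
  intro l hl
  simp only [Finset.coe_filter, Finset.mem_univ, true_and, Set.mem_ofPred_eq] at hl
  have heq : χ k0 = χ l := by
    have := congrArg (fun t : S => ((t.1 : IrrCharacter (GL (Fin n) F)) : GL (Fin n) F → ℂ))
      ((Finset.mem_filter.1 hk0).2.trans hl.symm)
    exact this
  have h1 := hinner k0 l
  rw [← heq, hself, ← Nat.cast_one, Nat.cast_inj] at h1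
  obtain ⟨i, hi⟩ := Finset.card_pos.1 (h1 ▸ Nat.one_pos :
    0 < ((Finset.range n).filter fun i => (k0 : ZMod M) * (q : ZMod M) ^ i = (l : ZMod M)).card)
  obtain ⟨hin, hil⟩ := Finset.mem_filter.1 hi
  have hqu : IsUnit (q : ZMod M) := by
    rw [ZMod.isUnit_iff_coprime]
    exact Nat.Coprime.coprime_dvd_left (dvd_pow_self q (show n ≠ 0 by omega))
      (show Nat.Coprime (q ^ n) M by
        rw [show q ^ n = M + 1 by omega, Nat.coprime_iff_gcd_eq_one]; simp)
  refine ⟨i, by simpa using hin, Units.ext ?_⟩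
  simp [dif_pos hqu, hil]

end Cfsg.Lib.Cusp
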