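import Cfsg.Agent.Lib.Linear.Cusp.Vanish

/-!
# The alternating eigenvalue function lives on primary endomorphisms
-/

set_option autoImplicit false
set_option linter.unusedSectionVars false
set_option linter.style.haveILetI false

namespace Cfsg.Lib.Cusp

open Module Polynomial

universe u v

variable {F : Type u} [Field F] [Fintype F] {L : Type*} [Field L] [Algebra F L] (ω : L → ℂ)
variable {V : Type v} [AddCommGroup V] [Module F V] [FiniteDimensional F V]

theorem aeval_restrict {g : End F V} {W : Submodule F V} (h : W ≤ W.comap g) (p : F[X]) (x : W) :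
    ((aeval (g.restrict h) p x : W) : V) = aeval g p (x : V) := by
  induction p using Polynomial.induction_on' with
  | add p q hp hq => simp [hp, hq]
  | monomial n c =>
    simp only [aeval_monomial, Module.algebraMap_end_eq_smul_id, End.mul_apply, LinearMap.smul_apply,
      LinearMap.id_apply, Submodule.coe_smul]
    congr 1
    induction n generalizing x with
    | zero => simp
    | succ n ih => rw [pow_succ, pow_succ, End.mul_apply, End.mul_apply, ih]; rfl

theorem aeval_mem {g : End F V} {W : Submodule F V} (h : W ≤ W.comap g) (p : F[X]) {x : V}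
    (hx : x ∈ W) : aeval g p x ∈ W := by
  rw [← aeval_restrict h p ⟨x, hx⟩]
  exact Subtype.mem _

theorem psi_eq_zero_of_coprime (g : End F V) (a b : F[X]) (hab : IsCoprime a b)
    (h0 : aeval g (a * b) = 0) (ha : LinearMap.ker (aeval g a) ≠ ⊥)
    (hb : LinearMap.ker (aeval g b) ≠ ⊥) : psi ω g = 0 := by
  induction hn : finrank F V using Nat.strong_induction_on generalizing V with
  | _ n ih =>
  subst hn
  classical
  haveI : Finite (Submodule F V) := finite_submodule V
  letI : Fintype (Submodule F V) := Fintype.ofFinite _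
  set A := LinearMap.ker (aeval g a) with hA
  set B := LinearMap.ker (aeval g b) with hB
  have hsup : A ⊔ B = ⊤ := by
    rw [hA, hB, sup_ker_aeval_eq_ker_aeval_mul_of_coprime g hab, h0, LinearMap.ker_zero]
  have hdis : Disjoint A B := disjoint_ker_aeval_of_isCoprime g hab
  have hinv : ∀ p : F[X], LinearMap.ker (aeval g p) ≤ (LinearMap.ker (aeval g p)).comap g := by
    intro p x hx
    rw [LinearMap.mem_ker] at hx
    rw [Submodule.mem_comap, LinearMap.mem_ker, ← End.mul_apply,
      show aeval g p * g = g * aeval g p by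
        conv_lhs => arg 2; rw [← aeval_X (R := F) g]
        conv_rhs => arg 1; rw [← aeval_X (R := F) g]
        rw [← map_mul, ← map_mul, mul_comm],
      End.mul_apply, hx, map_zero]
  have hother : ∀ W : Submodule F V, W ≠ ⊤ → ¬ W ≤ A → ¬ W ≤ B → psiOn ω g W = 0 := by
    intro W hW hWA hWB
    by_cases hi : W ≤ W.comap g
    swap
    · exact psiOn_of_not ω hi
    rw [psiOn_of ω hi]
    have hker : ∀ c : F[X], ∀ x : W, x ∈ LinearMap.ker (aeval (g.restrict hi) c) ↔
        (x : V) ∈ LinearMap.ker (aeval g c) := by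
      intro c x
      rw [LinearMap.mem_ker, LinearMap.mem_ker, ← aeval_restrict hi c x, ZeroMemClass.coe_eq_zero]
    have h0' : aeval (g.restrict hi) (a * b) = 0 := LinearMap.ext fun x => Subtype.ext <| by
      rw [aeval_restrict hi, h0]; rfl
    have hsup' : LinearMap.ker (aeval (g.restrict hi) a) ⊔ LinearMap.ker (aeval (g.restrict hi) b) = ⊤ := by
      rw [sup_ker_aeval_eq_ker_aeval_mul_of_coprime _ hab, h0', LinearMap.ker_zero]
    refine ih (finrank F W) (Submodule.finrank_lt hW) _ h0' ?_ ?_ rfl
    · intro hk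
      refine hWB fun x hx => (hker b ⟨x, hx⟩).1 ?_
      rw [hk, bot_sup_eq] at hsup'
      exact hsup' ▸ Submodule.mem_top
    · intro hk
      refine hWA fun x hx => (hker a ⟨x, hx⟩).1 ?_
      rw [hk, sup_bot_eq] at hsup'
      exact hsup' ▸ Submodule.mem_top
  have hAt : A ≠ ⊤ := fun h => hb (disjoint_top.1 (h ▸ hdis.symm))
  have hBt : B ≠ ⊤ := fun h => ha (disjoint_top.1 (h ▸ hdis))
  have heig : eig ω g = eig ω (g.restrict (hinv a)) + eig ω (g.restrict (hinv b)) := by
    rw [eig_add ω g A (hinv a)]
    congr 1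
    refine eig_conj ω (A.quotientEquivOfIsCompl B ⟨hdis, codisjoint_iff.2 hsup⟩).symm fun x => ?_
    rw [Submodule.quotientEquivOfIsCompl_symm_apply, Submodule.quotientEquivOfIsCompl_symm_apply]
    rfl
  have h1 : psi ω g + (∑ U ∈ Finset.univ.filter (· ≤ A), psiOn ω g U +
      ∑ U ∈ Finset.univ.filter (· ≤ B), psiOn ω g U) = eig ω g := by
    rw [← sum_psiOn ω g, ← psiOn_top ω g]
    simp only [Finset.sum_filter]
    conv_lhs => arg 1; rw [show psiOn ω g ⊤ = ∑ U, if U = ⊤ then psiOn ω g U else 0 by simp]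
    simp only [← Finset.sum_add_distrib]
    refine Finset.sum_congr rfl fun U _ => ?_
    by_cases hU : U = ⊤
    · subst hU
      simp [top_le_iff, hAt, hBt]
    by_cases hUA : U ≤ A
    · by_cases hUB : U ≤ B
      · have : U = ⊥ := le_bot_iff.1 (hdis hUA hUB)
        subst this
        simp [psiOn_bot]
      · simp [hU, hUA, hUB]
    · by_cases hUB : U ≤ B
      · simp [hU, hUA, hUB]
      · simp [hU, hUA, hUB, hother U hU hUA hUB]
  rw [sum_psiOn_le ω g (hinv a), sum_psiOn_le ω g (hinv b), heig] at h1
  linear_combination h1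

/-- An irreducible factor of the characteristic polynomial has a kernel. -/
theorem ker_ne_bot_of_dvd (g : End F V) {f : F[X]} (hf : Irreducible f) (hd : f ∣ g.charpoly) :
    LinearMap.ker (aeval g f) ≠ ⊥ := by
  classical
  intro hk
  haveI := Fact.mk hf
  set b := Module.finBasis F V
  set M := LinearMap.toMatrix b b g with hM
  have hdet : (aeval M f).det ≠ 0 := by
    have h1 : aeval M f = LinearMap.toMatrix b b (aeval g f) := by
      rw [hM]
      exact Polynomial.aeval_algHom_apply (LinearMap.toMatrixAlgEquiv b).toAlgHom g f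
    rw [h1, LinearMap.det_toMatrix]
    intro h
    exact (LinearMap.bot_lt_ker_of_det_eq_zero h).ne' hk
  set φ := algebraMap F (AdjoinRoot f)
  set a := AdjoinRoot.root f
  have hroot : ((M.map φ).charpoly).IsRoot a := by
    rw [Matrix.charpoly_map]
    obtain ⟨c, hc⟩ := hd
    rw [hM, LinearMap.charpoly_toMatrix, hc, Polynomial.map_mul]
    exact Polynomial.IsRoot.def.2 (by rw [eval_mul, eval_map, show φ = AdjoinRoot.of f from AdjoinRoot.algebraMap_eq f,
      AdjoinRoot.eval₂_root, zero_mul])
  have hmem := spectrum.subset_polynomial_aeval (M.map φ) (f.map φ)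
    ⟨a, Matrix.mem_spectrum_of_isRoot_charpoly hroot, rfl⟩
  have h2 : eval a (f.map φ) = 0 := by
    rw [eval_map, show φ = AdjoinRoot.of f from AdjoinRoot.algebraMap_eq f, AdjoinRoot.eval₂_root]
  simp only [h2] at hmem
  rw [spectrum.zero_mem_iff, Matrix.isUnit_iff_isUnit_det, isUnit_iff_ne_zero, not_not] at hmem
  have h3 : aeval (M.map φ) (f.map φ) = (aeval M f).map φ := by
    rw [aeval_map_algebraMap]
    exact Polynomial.aeval_algHom_apply (Algebra.ofId F (AdjoinRoot f)).mapMatrix M f
  rw [h3, ← RingHom.mapMatrix_apply, ← RingHom.map_det, map_eq_zero] at hmem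
  exact hdet hmem

/-- Where `psi` is nonzero the characteristic polynomial is a power of an irreducible one. -/
theorem charpoly_eq_pow (g : End F V) {f : F[X]} (hf : Irreducible f) (hfm : f.Monic)
    (hd : f ∣ g.charpoly) (hg : psi ω g ≠ 0) : ∃ k, g.charpoly = f ^ k := by
  obtain ⟨b, he, hb⟩ := (FiniteMultiplicity.of_prime_left hf.prime g.charpoly_monic.ne_zero).exists_eq_pow_mul_and_not_dvd
  generalize multiplicity f g.charpoly = k at he; refine ⟨k, ?_⟩
  by_cases hu : IsUnit b
  · have hbm : b.Monic := (hfm.pow k).of_mul_monic_left (he ▸ g.charpoly_monic)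
    rw [he, hbm.eq_one_of_isUnit hu, mul_one]
  exfalso
  obtain ⟨h, hh, hhb⟩ := WfDvdMonoid.exists_irreducible_factor hu (by
    rintro rfl
    exact g.charpoly_monic.ne_zero (by rw [he, mul_zero]))
  have hk : k ≠ 0 := by
    rintro rfl
    rw [pow_zero, one_mul] at he
    exact hb (he ▸ hd)
  refine hg (psi_eq_zero_of_coprime ω g (f ^ k) b ((hf.coprime_iff_not_dvd.2 hb).pow_left)
    (by rw [← he, LinearMap.aeval_self_charpoly]) ?_ ?_)
  · refine fun h0 => ker_ne_bot_of_dvd g hf hd (le_bot_iff.1 (le_trans ?_ h0.le))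
    intro x hx
    obtain ⟨j, rfl⟩ := Nat.exists_eq_succ_of_ne_zero hk
    rw [LinearMap.mem_ker] at hx ⊢
    rw [pow_succ, map_mul, End.mul_apply, hx, map_zero]
  · refine fun h0 => ker_ne_bot_of_dvd g hh (hhb.trans (he ▸ dvd_mul_left b _))
      (le_bot_iff.1 (le_trans ?_ h0.le))
    intro x hx
    obtain ⟨c, rfl⟩ := hhb
    rw [LinearMap.mem_ker] at hx ⊢
    rw [mul_comm, map_mul, End.mul_apply, hx, map_zero]

end Cfsg.Lib.Cusp
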