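import Cfsg.Agent.Lib.Linear.Cusp.Primary
import Cfsg.Agent.Lib.Linear.Cusp.Identities

/-!
# Independent tuples in the kernel of an irreducible polynomial
-/

set_option autoImplicit false
set_option linter.unusedSectionVars false
set_option linter.style.haveILetI false

namespace Cfsg.Lib.Cusp

open Module Polynomial

universe u v

variable {F : Type u} [Field F] [Fintype F]
variable {V : Type v} [AddCommGroup V] [Module F V] [FiniteDimensional F V]

/-- The vectors `g ^ i (v l)`. -/
def cyc (g : End F V) {j : ℕ} (d : ℕ) (v : Fin j → V) : Fin j × Fin d → V :=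
  fun p => (g ^ (p.2 : ℕ)) (v p.1)

/-- Tuples in the kernel of `f g` generating cyclic subspaces in direct sum. -/
def Indep (g : End F V) (f : F[X]) {j : ℕ} (v : Fin j → V) : Prop :=
  (∀ l, v l ∈ LinearMap.ker (aeval g f)) ∧ LinearIndependent F (cyc g f.natDegree v)

/-- The span of the cyclic subspaces. -/
def cspan (g : End F V) (f : F[X]) {j : ℕ} (v : Fin j → V) : Submodule F V :=
  Submodule.span F (Set.range (cyc g f.natDegree v))

variable {g : End F V} {f : F[X]}

theorem aeval_mem_span (hf : f.Monic) (p : F[X]) {x : V} (hx : aeval g f x = 0) :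
    aeval g p x ∈ Submodule.span F (Set.range fun i : Fin f.natDegree => (g ^ (i : ℕ)) x) := by
  have he : aeval g p x = aeval g (p %ₘ f) x := by
    conv_lhs => rw [← modByMonic_add_div p f]
    rw [mul_comm f, map_add, map_mul, LinearMap.add_apply, End.mul_apply, hx, map_zero,
      add_zero]
  rw [he]
  by_cases h1 : f = 1
  · subst h1
    simp
  rw [aeval_eq_sum_range' (natDegree_modByMonic_lt p hf h1), LinearMap.sum_apply]
  exact Submodule.sum_mem _ fun i hi => by
    rw [LinearMap.smul_apply]
    exact Submodule.smul_mem _ _ (Submodule.subset_span ⟨⟨i, Finset.mem_range.1 hi⟩, rfl⟩)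

theorem aeval_mem_cspan (hf : f.Monic) {j : ℕ} {v : Fin j → V} (hv : ∀ l, aeval g f (v l) = 0)
    (p : F[X]) (l : Fin j) : aeval g p (v l) ∈ cspan g f v := by
  refine Submodule.span_mono ?_ (aeval_mem_span hf p (hv l))
  rintro _ ⟨i, rfl⟩
  exact ⟨(l, i), rfl⟩

theorem cspan_invariant (hf : f.Monic) {j : ℕ} {v : Fin j → V} (hv : ∀ l, aeval g f (v l) = 0) :
    cspan g f v ≤ (cspan g f v).comap g := by
  refine Submodule.span_le.2 ?_
  rintro _ ⟨⟨l, i⟩, rfl⟩
  show g ((g ^ (i : ℕ)) (v l)) ∈ cspan g f v
  rw [← End.mul_apply, ← pow_succ']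
  simpa using aeval_mem_cspan hf hv (X ^ ((i : ℕ) + 1)) l

theorem cspan_le_ker {j : ℕ} {v : Fin j → V} (hv : ∀ l, aeval g f (v l) = 0) :
    cspan g f v ≤ LinearMap.ker (aeval g f) := by
  refine Submodule.span_le.2 ?_
  rintro _ ⟨⟨l, i⟩, rfl⟩
  show aeval g f ((g ^ (i : ℕ)) (v l)) = 0
  have : g ^ (i : ℕ) = aeval g (X ^ (i : ℕ) : F[X]) := by simp
  rw [this, ← End.mul_apply, ← map_mul, mul_comm, map_mul, End.mul_apply, hv, map_zero]

theorem indep_snoc (hf : f.Monic) (hirr : Irreducible f) {j : ℕ} (v : Fin j → V) (w : V) :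
    Indep g f (Fin.snoc v w : Fin (j + 1) → V) ↔
      Indep g f v ∧ w ∈ LinearMap.ker (aeval g f) ∧ w ∉ cspan g f v := by
  constructor
  · rintro ⟨hk, hl⟩
    refine ⟨⟨fun l => by simpa using hk l.castSucc, ?_⟩, by simpa using hk (Fin.last j), fun hw => ?_⟩
    · have := hl.comp (fun p : Fin j × Fin f.natDegree => (p.1.castSucc, p.2))
        (fun a b hab => by
          simp only [Prod.mk.injEq, Fin.castSucc_inj] at hab
          exact Prod.ext hab.1 hab.2)
      convert this using 1
      funext p
      simp [cyc]
    · refine hl.notMem_span_image (s := Set.range fun p : Fin j × Fin f.natDegree => (p.1.castSucc, p.2))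
        (x := (Fin.last j, ⟨0, hirr.natDegree_pos⟩)) ?_ ?_
      · rintro ⟨⟨l, i⟩, he⟩
        exact (Fin.castSucc_lt_last l).ne (congrArg Prod.fst he)
      · rw [← Set.range_comp]
        have he : (cyc g f.natDegree (Fin.snoc v w : Fin (j + 1) → V)) ∘
            (fun p : Fin j × Fin f.natDegree => (p.1.castSucc, p.2)) = cyc g f.natDegree v := by
          funext p
          simp [cyc]
        rw [he]
        simpa [cyc, cspan] using hw
  · rintro ⟨⟨hk, hl⟩, hw, hnot⟩
    refine ⟨Fin.lastCases (by simpa using hw) (fun l => by simpa using hk l), ?_⟩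
    rw [Fintype.linearIndependent_iff] at hl ⊢
    intro c hc
    rw [Fintype.sum_prod_type, Fin.sum_univ_castSucc] at hc
    simp only [cyc, Fin.snoc_castSucc, Fin.snoc_last] at hc
    set r : F[X] := ∑ i : Fin f.natDegree, monomial (i : ℕ) (c (Fin.last j, i)) with hr
    have hrw : aeval g r w = ∑ i : Fin f.natDegree, c (Fin.last j, i) • (g ^ (i : ℕ)) w := by
      rw [hr, map_sum, LinearMap.sum_apply]
      exact Finset.sum_congr rfl fun i _ => by
        rw [aeval_monomial, Module.algebraMap_end_eq_smul_id, End.mul_apply, LinearMap.smul_apply,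
          LinearMap.id_apply]
    have hmem : aeval g r w ∈ cspan g f v := by
      rw [hrw, eq_neg_of_add_eq_zero_right hc]
      exact Submodule.neg_mem _ (Submodule.sum_mem _ fun l _ => Submodule.sum_mem _ fun i _ =>
        Submodule.smul_mem _ _ (Submodule.subset_span ⟨(l, i), rfl⟩))
    have hr0 : r = 0 := by
      by_contra hne
      have hdeg : r.degree < f.degree := by
        rw [degree_eq_natDegree hf.ne_zero, hr]
        refine (degree_sum_le _ _).trans_lt ((Finset.sup_lt_iff (WithBot.bot_lt_coe _)).2 fun i _ => ?_)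
        exact (degree_monomial_le _ _).trans_lt (WithBot.coe_lt_coe.2 i.2)
      have hcop : IsCoprime f r := hirr.coprime_iff_not_dvd.2 fun hd => hne
        (eq_zero_of_dvd_of_degree_lt hd hdeg)
      obtain ⟨a, b, hab⟩ := hcop
      apply hnot
      have h1 : w = aeval g b (aeval g r w) := by
        have := LinearMap.congr_fun (congrArg (aeval g) hab) w
        rw [map_add, map_mul, map_mul, map_one, LinearMap.add_apply, End.mul_apply, End.mul_apply,
          (LinearMap.mem_ker.1 hw), map_zero, zero_add, End.one_apply] at this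
        exact this.symm
      rw [h1]
      exact aeval_mem (cspan_invariant hf fun l => LinearMap.mem_ker.1 (hk l)) b hmem
    have hlast : ∀ i : Fin f.natDegree, c (Fin.last j, i) = 0 := by
      intro i
      have := congrArg (fun p : F[X] => p.coeff i) hr0
      simpa [hr, finsetSum_coeff, coeff_monomial, Fin.val_inj] using this
    simp only [hlast, zero_smul, Finset.sum_const_zero, add_zero] at hc
    rintro ⟨l, i⟩
    induction l using Fin.lastCases with
    | last => exact hlast i
    | cast l => exact hl (fun p => c (p.1.castSucc, p.2)) (by rw [Fintype.sum_prod_type]; exact hc) (l, i)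

theorem card_cspan {j : ℕ} {v : Fin j → V} (h : Indep g f v) :
    finrank F (cspan g f v) = j * f.natDegree := by
  rw [cspan, finrank_span_eq_card h.2, Fintype.card_prod, Fintype.card_fin, Fintype.card_fin]

open Classical in
theorem card_indep (hf : f.Monic) (hirr : Irreducible f) [Fintype V] (j : ℕ) :
    ((Finset.univ.filter fun v : Fin j → V => Indep g f v).card : ℂ) =
      fallProd ((Fintype.card F : ℂ) ^ f.natDegree)
        ((Fintype.card F : ℂ) ^ finrank F (LinearMap.ker (aeval g f))) j := by
  induction j with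
  | zero =>
    have : ∀ v : Fin 0 → V, Indep g f v := fun v => ⟨fun l => l.elim0, linearIndependent_empty_type⟩
    simp [fallProd, this]
  | succ j ih =>
    set K := LinearMap.ker (aeval g f)
    rw [fallProd_succ, ← ih, Finset.card_eq_sum_card_fiberwise (f := Fin.init)
      (t := Finset.univ.filter fun v : Fin j → V => Indep g f v) (fun u hu => by
        simp only [Finset.coe_filter, Finset.mem_univ, true_and, Set.mem_setOf_eq] at hu ⊢
        rw [← Fin.snoc_init_self u, indep_snoc hf hirr] at hu
        exact hu.1), Nat.cast_sum, ← nsmul_eq_mul, ← Finset.sum_const]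
    refine Finset.sum_congr rfl fun v hv => ?_
    have hv' : Indep g f v := (Finset.mem_filter.1 hv).2
    have hset : ((Finset.univ.filter fun u : Fin (j + 1) → V => Indep g f u).filter
        fun u => Fin.init u = v) =
        (Finset.univ.filter fun w : V => w ∈ K ∧ w ∉ cspan g f v).map
          ⟨fun w => Fin.snoc v w, fun a b hab => by simpa using congrFun hab (Fin.last j)⟩ := by
      ext u
      simp only [Finset.mem_filter, Finset.mem_univ, true_and, Finset.mem_map,
        Function.Embedding.coeFn_mk]
      constructor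
      · rintro ⟨hu, rfl⟩
        refine ⟨u (Fin.last j), ?_, Fin.snoc_init_self u⟩
        rw [← Fin.snoc_init_self u, indep_snoc hf hirr] at hu
        exact hu.2
      · rintro ⟨w, hw, rfl⟩
        exact ⟨(indep_snoc hf hirr v w).2 ⟨hv', hw⟩, Fin.init_snoc _ _⟩
    have hle : cspan g f v ≤ K := cspan_le_ker fun l => LinearMap.mem_ker.1 (hv'.1 l)
    have hcard : ∀ W : Submodule F V, (Finset.univ.filter fun w : V => w ∈ W).card =
        Fintype.card F ^ finrank F W := by
      intro W
      rw [← Fintype.card_subtype]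
      exact Module.card_eq_pow_finrank (K := F) (V := W)
    have h2 : (Finset.univ.filter fun w : V => w ∈ cspan g f v).card +
        (Finset.univ.filter fun w : V => w ∈ K ∧ w ∉ cspan g f v).card =
        (Finset.univ.filter fun w : V => w ∈ K).card := by
      rw [← Finset.card_filter_add_card_filter_not (s := Finset.univ.filter fun w : V => w ∈ K)
        (fun w => w ∈ cspan g f v), Finset.filter_filter, Finset.filter_filter]
      congr 2
      exact Finset.filter_congr fun w _ => ⟨fun h => ⟨hle h, h⟩, fun h => h.2⟩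
    rw [hcard, hcard, card_cspan hv'] at h2
    rw [hset, Finset.card_map, ← pow_mul, mul_comm f.natDegree, eq_sub_iff_add_eq]
    exact_mod_cast (add_comm _ _).trans h2

theorem Q_facts (F : Type u) [Field F] [Fintype F] {d : ℕ} (hd : 0 < d) :
    (Fintype.card F : ℂ) ^ d ≠ 0 ∧ ∀ i : ℕ, 0 < i → ((Fintype.card F : ℂ) ^ d) ^ i ≠ 1 := by
  refine ⟨pow_ne_zero _ (Nat.cast_ne_zero.2 Fintype.card_ne_zero), fun i hi h => ?_⟩
  rw [← pow_mul] at h
  have h' : Fintype.card F ^ (d * i) = 1 := by exact_mod_cast h
  have := Fintype.one_lt_card (α := F)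
  rcases Nat.pow_eq_one.1 h' with h2 | h2
  · omega
  · exact (Nat.mul_pos hd hi).ne' h2

/-- The kernel of an irreducible polynomial has dimension a multiple of the degree. -/
theorem exists_rank (hf : f.Monic) (hirr : Irreducible f) :
    ∃ k, finrank F (LinearMap.ker (aeval g f)) = k * f.natDegree ∧
      ∃ v : Fin k → V, Indep g f v ∧ cspan g f v = LinearMap.ker (aeval g f) := by
  classical
  set K := LinearMap.ker (aeval g f)
  have hd := hirr.natDegree_pos
  have hle : ∀ {j : ℕ} {v : Fin j → V}, Indep g f v → j ≤ finrank F V := by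
    intro j v hv
    have := card_cspan hv
    have h1 := Submodule.finrank_le (cspan g f v)
    nlinarith
  have hex : ∃ v : Fin 0 → V, Indep g f v :=
    ⟨Fin.elim0, fun l => l.elim0, linearIndependent_empty_type⟩
  have hspec := Nat.findGreatest_spec (P := fun j => ∃ v : Fin j → V, Indep g f v)
    (Nat.zero_le (finrank F V)) hex
  set k := Nat.findGreatest (fun j => ∃ v : Fin j → V, Indep g f v) (finrank F V) with hk
  obtain ⟨v, hv⟩ := hspec
  have htop : cspan g f v = K := by
    refine le_antisymm (cspan_le_ker fun l => LinearMap.mem_ker.1 (hv.1 l)) fun w hw => ?_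
    by_contra hnot
    have hs : Indep g f (Fin.snoc v w : Fin (k + 1) → V) := (indep_snoc hf hirr v w).2 ⟨hv, hw, hnot⟩
    have := Nat.le_findGreatest (P := fun j => ∃ v : Fin j → V, Indep g f v) (hle hs) ⟨_, hs⟩
    omega
  exact ⟨k, by rw [← htop, card_cspan hv], v, hv, htop⟩

end Cfsg.Lib.Cusp
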