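import Cfsg.Agent.Lib.Linear.Cusp.Tuples

/-!
# The values at semisimple endomorphisms and the primary sums
-/

set_option autoImplicit false
set_option linter.unusedSectionVars false
set_option linter.style.haveILetI false
set_option maxHeartbeats 600000

namespace Cfsg.Lib.Cusp

open Module Polynomial

universe u v

variable {F : Type u} [Field F] [Fintype F] {L : Type*} [Field L] [Algebra F L] (ω : L → ℂ)
variable {V : Type v} [AddCommGroup V] [Module F V] [FiniteDimensional F V]
variable {g : End F V} {f : F[X]}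

/-- The sum of `ω` over the roots of `f`. -/
noncomputable def rootSum (f : F[X]) : ℂ := ((f.map (algebraMap F L)).roots.map ω).sum

theorem eig_of_charpoly {k : ℕ} (h : g.charpoly = f ^ k) : eig ω g = k * rootSum ω f := by
  rw [eig, rootSum, h, Polynomial.map_pow, roots_pow, Multiset.map_nsmul, Multiset.sum_nsmul,
    nsmul_eq_mul]

theorem ker_eq_bot_of_not_dvd (hirr : Irreducible f) (h : ¬ f ∣ g.charpoly) :
    LinearMap.ker (aeval g f) = ⊥ := by
  obtain ⟨a, b, hab⟩ := hirr.coprime_iff_not_dvd.2 h
  rw [LinearMap.ker_eq_bot']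
  intro x hx
  have := LinearMap.congr_fun (congrArg (aeval g) hab) x
  rw [map_add, map_mul, map_mul, map_one, LinearMap.aeval_self_charpoly, mul_zero, add_zero,
    End.mul_apply, hx, map_zero, End.one_apply] at this
  exact this.symm

theorem charpoly_of_aeval_eq_zero (hf : f.Monic) (hirr : Irreducible f) {m : ℕ}
    (hn : finrank F V = m * f.natDegree) (h0 : aeval g f = 0) : g.charpoly = f ^ m := by
  have hco : ∀ h : F[X], Irreducible h → h ∣ g.charpoly → f ∣ h := by
    intro h hh hd
    by_contra hfh
    obtain ⟨a, b, hab⟩ := hirr.coprime_iff_not_dvd.2 hfh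
    refine ker_ne_bot_of_dvd g hh hd (LinearMap.ker_eq_bot'.2 fun x hx => ?_)
    have := LinearMap.congr_fun (congrArg (aeval g) hab) x
    rw [map_add, map_mul, map_mul, map_one, h0, mul_zero, zero_add, End.mul_apply, hx, map_zero,
      End.one_apply] at this
    exact this.symm
  obtain ⟨b, he, hb⟩ := (FiniteMultiplicity.of_prime_left hirr.prime
    g.charpoly_monic.ne_zero).exists_eq_pow_mul_and_not_dvd
  generalize multiplicity f g.charpoly = k at he
  have hu : IsUnit b := by
    by_contra hu
    obtain ⟨h, hh, hhb⟩ := WfDvdMonoid.exists_irreducible_factor hu (by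
      rintro rfl
      exact g.charpoly_monic.ne_zero (by rw [he, mul_zero]))
    exact hb ((hco h hh (hhb.trans (he ▸ dvd_mul_left b _))).trans hhb)
  have hbm : b.Monic := (hf.pow k).of_mul_monic_left (he ▸ g.charpoly_monic)
  rw [hbm.eq_one_of_isUnit hu, mul_one] at he
  have := congrArg natDegree he
  rw [LinearMap.charpoly_natDegree, natDegree_pow, hn] at this
  rwa [Nat.eq_of_mul_eq_mul_right hirr.natDegree_pos this]

theorem pow_apply_congr {g g' : End F V} {W : Submodule F V} (hW : W ≤ W.comap g)
    (h : ∀ x ∈ W, g x = g' x) (i : ℕ) : ∀ x ∈ W, (g' ^ i) x = (g ^ i) x := by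
  induction i with
  | zero => intro x _; rfl
  | succ i ih =>
    intro x hx
    rw [pow_succ, pow_succ, End.mul_apply, End.mul_apply, ← h x hx]
    exact ih _ (hW hx)

theorem aeval_apply_congr {g g' : End F V} {W : Submodule F V} (hW : W ≤ W.comap g)
    (h : ∀ x ∈ W, g x = g' x) (p : F[X]) {x : V} (hx : x ∈ W) : aeval g' p x = aeval g p x := by
  induction p using Polynomial.induction_on' with
  | add p q hp hq => simp [hp, hq]
  | monomial n c =>
    rw [aeval_monomial, aeval_monomial, End.mul_apply, End.mul_apply, pow_apply_congr hW h n x hx]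

theorem mem_cspan (hirr : Irreducible f) {j : ℕ} (v : Fin j → V) (l : Fin j) : v l ∈ cspan g f v :=
  Submodule.subset_span ⟨(l, ⟨0, hirr.natDegree_pos⟩), by simp [cyc]⟩

theorem indep_restrict {W : Submodule F V} (hW : W ≤ W.comap g) {j : ℕ} (v : Fin j → W) :
    Indep (g.restrict hW) f v ↔ Indep g f (fun l => (v l : V)) := by
  refine and_congr (forall_congr' fun l => ?_) ?_
  · rw [LinearMap.mem_ker, LinearMap.mem_ker, ← aeval_restrict hW f, ZeroMemClass.coe_eq_zero]
  · have : cyc g f.natDegree (fun l => (v l : V)) = W.subtype ∘ cyc (g.restrict hW) f.natDegree v := by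
      funext p
      have := aeval_restrict hW (X ^ (p.2 : ℕ)) (v p.1)
      simp only [map_pow, aeval_X] at this
      exact this.symm
    rw [this, LinearMap.linearIndependent_iff _ W.ker_subtype]

theorem psi_of_aeval_eq_zero (hf : f.Monic) (hirr : Irreducible f) {m : ℕ}
    (hn : finrank F V = m * f.natDegree) (h0 : aeval g f = 0) :
    psi ω g = rootSum ω f * ssVal ((Fintype.card F : ℂ) ^ f.natDegree) m := by
  induction hr : finrank F V using Nat.strong_induction_on generalizing V m with
  | _ r ih =>
  subst hr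
  classical
  haveI : Finite V := Module.finite_of_finite F
  letI : Fintype V := Fintype.ofFinite _
  haveI : Finite (Submodule F V) := finite_submodule V
  letI : Fintype (Submodule F V) := Fintype.ofFinite _
  set Q : ℂ := (Fintype.card F : ℂ) ^ f.natDegree with hQ
  obtain ⟨hQ0, hQ1⟩ := Q_facts F hirr.natDegree_pos
  have hd := hirr.natDegree_pos
  have hres : ∀ W : Submodule F V, ∀ hW : W ≤ W.comap g, aeval (g.restrict hW) f = 0 := fun W hW =>
    LinearMap.ext fun x => Subtype.ext <| by rw [aeval_restrict hW, h0]; rfl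
  have hrank : ∀ W : Submodule F V, W ≤ W.comap g → ∃ j ≤ m, finrank F W = j * f.natDegree := by
    intro W hW
    obtain ⟨k, hk, -⟩ := exists_rank (g := g.restrict hW) hf hirr
    rw [hres W hW, LinearMap.ker_zero, finrank_top] at hk
    refine ⟨k, ?_, hk⟩
    have := Submodule.finrank_le W
    rw [hk, hn] at this
    exact Nat.le_of_mul_le_mul_right this hd
  let φ : Submodule F V → ℂ := fun W =>
    if W ≤ W.comap g then ssVal Q (finrank F W / f.natDegree) else 0
  -- counting by tuples
  have hfibre : ∀ j, ∀ W : Submodule F V, W ≤ W.comap g → finrank F W = j * f.natDegree →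
      (((Finset.univ.filter fun v : Fin j → V => Indep g f v).filter fun v => cspan g f v = W).card : ℂ) =
        fallProd Q (Q ^ j) j := by
    intro j W hW hj
    have hc := card_indep (g := g.restrict hW) hf hirr j
    rw [hres W hW, LinearMap.ker_zero, finrank_top, hj, mul_comm j, pow_mul] at hc
    rw [hQ, ← hc, Nat.cast_inj]
    refine (Finset.card_bij (fun (v : Fin j → W) _ => fun l => (v l : V)) ?_ ?_ ?_).symm
    · intro v hv
      simp only [Finset.mem_filter, Finset.mem_univ, true_and] at hv ⊢
      have hv' := (indep_restrict hW v).1 hv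
      refine ⟨hv', Submodule.eq_of_le_of_finrank_eq (Submodule.span_le.2 ?_) ?_⟩
      · rintro _ ⟨p, rfl⟩
        have := aeval_mem hW (X ^ (p.2 : ℕ)) (v p.1).2
        simpa [cyc] using this
      · rw [card_cspan hv', hj]
    · intro a _ b _ hab
      exact funext fun l => Subtype.ext (congrFun hab l)
    · intro u hu
      simp only [Finset.mem_filter, Finset.mem_univ, true_and] at hu
      refine ⟨fun l => ⟨u l, hu.2 ▸ mem_cspan hirr u l⟩, ?_, rfl⟩
      simp only [Finset.mem_filter, Finset.mem_univ, true_and]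
      exact (indep_restrict hW _).2 hu.1
  have hphi : ∑ W, φ W = m := by
    rw [← sum_ssVal hQ0 hQ1 m m le_rfl]
    have hker : finrank F (LinearMap.ker (aeval g f)) = m * f.natDegree := by
      rw [h0, LinearMap.ker_zero, finrank_top, hn]
    have step : ∀ j ∈ Finset.range (m + 1), ssVal Q j * (fallProd Q (Q ^ m) j / fallProd Q (Q ^ j) j) =
        ∑ W : Submodule F V, if W ≤ W.comap g ∧ finrank F W = j * f.natDegree then ssVal Q j else 0 := by
      intro j _
      have hc := card_indep (g := g) hf hirr j
      rw [hker, mul_comm m, pow_mul] at hc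
      rw [hQ, ← hc, Finset.card_eq_sum_card_fiberwise (f := fun v => cspan g f v) (t := Finset.univ)
        (fun v _ => Finset.mem_univ _), Nat.cast_sum, Finset.sum_div, Finset.mul_sum]
      refine Finset.sum_congr rfl fun W _ => ?_
      split_ifs with hW
      · rw [hfibre j W hW.1 hW.2, div_self (fallProd_self_ne hQ0 hQ1 j), mul_one]
      · rw [Finset.card_eq_zero.2 (Finset.filter_eq_empty_iff.2 fun v hv hvW => hW ?_), Nat.cast_zero,
          zero_div, mul_zero]
        have hv' := (Finset.mem_filter.1 hv).2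
        exact ⟨hvW ▸ cspan_invariant hf fun l => LinearMap.mem_ker.1 (hv'.1 l),
          hvW ▸ card_cspan hv'⟩
    rw [Finset.sum_congr rfl step, Finset.sum_comm]
    refine Finset.sum_congr rfl fun W _ => ?_
    simp only [φ]
    split_ifs with hW
    · obtain ⟨j, hj, hjr⟩ := hrank W hW
      rw [Finset.sum_eq_single j (fun i _ hi => if_neg fun h => hi
        (Nat.eq_of_mul_eq_mul_right hd (h.2.symm.trans hjr))) (fun h => absurd (Finset.mem_range.2
          (by omega)) h), if_pos ⟨hW, hjr⟩, hjr, Nat.mul_div_cancel _ hd]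
    · simp [hW]
  have hpsi : ∀ W : Submodule F V, W ≠ ⊤ → psiOn ω g W = rootSum ω f * φ W := by
    intro W hW
    simp only [φ]
    split_ifs with hi
    · obtain ⟨j, -, hjr⟩ := hrank W hi
      rw [psiOn_of ω hi, hjr, Nat.mul_div_cancel _ hd]
      exact ih (finrank F W) (Submodule.finrank_lt hW) hjr (hres W hi) rfl
    · rw [psiOn_of_not ω hi, mul_zero]
  have hsum := sum_psiOn ω g
  rw [eig_of_charpoly ω (charpoly_of_aeval_eq_zero hf hirr hn h0), ← hphi,
    ← Finset.add_sum_erase _ _ (Finset.mem_univ ⊤), ← Finset.add_sum_erase _ φ (Finset.mem_univ ⊤),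
    psiOn_top, add_mul, Finset.sum_mul, Finset.sum_congr rfl (g := fun W => φ W * rootSum ω f)
      (fun W hW => by rw [hpsi W (Finset.ne_of_mem_erase hW), mul_comm]), add_left_inj] at hsum
  rw [hsum, show φ ⊤ = ssVal Q m by
    simp only [φ]
    rw [if_pos (show (⊤ : Submodule F V) ≤ (⊤ : Submodule F V).comap g from fun x _ => Submodule.mem_top),
      finrank_top, hn, Nat.mul_div_cancel _ hd], mul_comm]

theorem sum_psi_indep [Fintype V] [Fintype (End F V)] (hirr : Irreducible f) (hf : f.Monic) {j : ℕ}
    (hj : 0 < j) (hlt : j * f.natDegree < finrank F V) (v : Fin j → V)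
    [DecidablePred fun g : End F V => Indep g f v] :
    ∑ g ∈ Finset.univ.filter (fun g : End F V => Indep g f v), psi ω g = 0 := by
  classical
  haveI : Finite (Submodule F V) := finite_submodule V
  letI : Fintype (Submodule F V) := Fintype.ofFinite _
  rw [← Finset.sum_fiberwise (Finset.univ.filter fun g : End F V => Indep g f v) (fun g => cspan g f v)]
  refine Finset.sum_eq_zero fun W _ => ?_
  haveI : Finite ((V ⧸ W) →ₗ[F] W) := finite_hom _ _
  letI : Fintype ((V ⧸ W) →ₗ[F] W) := Fintype.ofFinite _
  set A := (Finset.univ.filter fun g : End F V => Indep g f v).filter fun g => cspan g f v = W with hA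
  have hmem : ∀ g ∈ A, ∀ h, g + shift W h ∈ A := by
    intro g hg h
    simp only [hA, Finset.mem_filter, Finset.mem_univ, true_and] at hg ⊢
    obtain ⟨hg, rfl⟩ := hg
    have hW : cspan g f v ≤ (cspan g f v).comap g :=
      cspan_invariant hf fun l => LinearMap.mem_ker.1 (hg.1 l)
    have hag : ∀ x ∈ cspan g f v, g x = (g + shift (cspan g f v) h) x := fun x hx => by
      rw [LinearMap.add_apply, shift_apply_mem _ h hx, add_zero]
    have hc : cyc (g + shift (cspan g f v) h) f.natDegree v = cyc g f.natDegree v := funext fun p =>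
      pow_apply_congr hW hag _ _ (mem_cspan hirr v p.1)
    refine ⟨⟨fun l => ?_, hc ▸ hg.2⟩, by rw [cspan, hc]; rfl⟩
    rw [LinearMap.mem_ker, aeval_apply_congr hW hag f (mem_cspan hirr v l)]
    exact LinearMap.mem_ker.1 (hg.1 l)
  have h2 : ∀ h, ∑ g ∈ A, psi ω (g + shift W h) = ∑ g ∈ A, psi ω g := by
    intro h
    refine Finset.sum_bij' (fun g _ => g + shift W h) (fun g _ => g + shift W (-h)) (fun g hg => hmem g hg h)
      (fun g hg => hmem g hg (-h)) ?_ ?_ fun g _ => rfl
    · intro g _; ext x; simp [shift_apply]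
    · intro g _; ext x; simp [shift_apply]
  have h3 : (Fintype.card ((V ⧸ W) →ₗ[F] W) : ℂ) * ∑ g ∈ A, psi ω g = 0 :=
    calc _ = ∑ h, ∑ g ∈ A, psi ω (g + shift W h) := by
            rw [Finset.sum_congr rfl fun h _ => h2 h, Finset.sum_const, Finset.card_univ, nsmul_eq_mul]
      _ = ∑ g ∈ A, ∑ h, psi ω (g + shift W h) := Finset.sum_comm
      _ = 0 := Finset.sum_eq_zero fun g hg => by
        simp only [hA, Finset.mem_filter, Finset.mem_univ, true_and] at hg
        obtain ⟨hg, rfl⟩ := hg
        refine sum_psi_shift ω _ (cspan_invariant hf fun l => LinearMap.mem_ker.1 (hg.1 l)) ?_ ?_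
        · intro h0
          have := card_cspan hg
          rw [h0, finrank_bot] at this
          exact (Nat.mul_pos hj hirr.natDegree_pos).ne this
        · intro h0
          have := card_cspan hg
          rw [h0, finrank_top] at this
          omega
  exact (mul_eq_zero.1 h3).resolve_left (Nat.cast_ne_zero.2 Fintype.card_ne_zero)

open Classical in
theorem card_pairs [Fintype V] [Fintype (End F V)] (hf : f.Monic) (hirr : Irreducible f) {m : ℕ}
    (hn : finrank F V = m * f.natDegree) :
    ∑ g : End F V, (Finset.univ.filter fun v : Fin m → V => Indep g f v).card =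
      Nat.card {s : Fin (finrank F V) → V // LinearIndependent F s} := by
  classical
  have hd := hirr.natDegree_pos
  rw [← Nat.card_congr ((Equiv.arrowCongr ((finProdFinEquiv (m := m) (n := f.natDegree)).trans
      (finCongr hn.symm)) (Equiv.refl V)).subtypeEquiv fun s =>
        (linearIndependent_equiv ((finProdFinEquiv (m := m) (n := f.natDegree)).trans
          (finCongr hn.symm)).symm).symm), Nat.card_eq_fintype_card, ← Finset.card_sigma,
    Fintype.card_subtype]
  have htop : ∀ (g : End F V) (v : Fin m → V), Indep g f v →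
      ⊤ ≤ Submodule.span F (Set.range (cyc g f.natDegree v)) := fun g v hv =>
    (Submodule.eq_top_of_finrank_eq (S := cspan g f v) ((card_cspan hv).trans hn.symm)).ge
  refine Finset.card_bij (fun p _ => cyc p.1 f.natDegree p.2) (fun p hp => ?_) ?_ ?_
  · simp only [Finset.mem_sigma, Finset.mem_filter, Finset.mem_univ, true_and] at hp ⊢
    exact hp.2
  · rintro ⟨g, v⟩ hp ⟨g', v'⟩ hp' (he : cyc g _ v = cyc g' _ v')
    simp only [Finset.mem_sigma, Finset.mem_filter, Finset.mem_univ, true_and] at hp hp'
    have hv : v = v' := funext fun l => by simpa [cyc] using congrFun he (l, ⟨0, hd⟩)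
    subst hv
    obtain rfl : g = g' := by
      refine LinearMap.ext_on_range (eq_top_iff.2 (htop g v hp)) fun p => ?_
      show g ((g ^ (p.2 : ℕ)) (v p.1)) = g' ((g ^ (p.2 : ℕ)) (v p.1))
      conv_rhs => rw [show (g ^ (p.2 : ℕ)) (v p.1) = (g' ^ (p.2 : ℕ)) (v p.1) from congrFun he p]
      rw [← End.mul_apply, ← End.mul_apply, ← pow_succ', ← pow_succ']
      rcases Nat.lt_or_ge ((p.2 : ℕ) + 1) f.natDegree with hlt | hge
      · exact congrFun he (p.1, ⟨_, hlt⟩)
      · have hpd : (p.2 : ℕ) + 1 = f.natDegree := by omega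
        have key : ∀ G : End F V, aeval G f (v p.1) = 0 → (G ^ f.natDegree) (v p.1) =
            -∑ i : Fin f.natDegree, f.coeff i • (G ^ (i : ℕ)) (v p.1) := by
          intro G hG
          rw [aeval_eq_sum_range, Finset.sum_range_succ, LinearMap.add_apply, LinearMap.sum_apply,
            LinearMap.smul_apply, hf.coeff_natDegree, one_smul] at hG
          rw [eq_neg_of_add_eq_zero_right hG, Fin.sum_univ_eq_sum_range
            (fun i => f.coeff i • (G ^ i) (v p.1))]
          rfl
        rw [hpd, key g (LinearMap.mem_ker.1 (hp.1 p.1)), key g' (LinearMap.mem_ker.1 (hp'.1 p.1))]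
        exact congrArg Neg.neg (Finset.sum_congr rfl fun i _ => congrArg _ (congrFun he (p.1, i)))
    rfl
  · intro s hs
    simp only [Finset.mem_filter, Finset.mem_univ, true_and] at hs
    have hspan : ⊤ ≤ Submodule.span F (Set.range s) := (Submodule.eq_top_of_finrank_eq (by
      rw [finrank_span_eq_card hs, Fintype.card_prod, Fintype.card_fin, Fintype.card_fin, hn])).ge
    let b := Basis.mk hs hspan
    let g : End F V := b.constr F fun p => if h : (p.2 : ℕ) + 1 < f.natDegree then s (p.1, ⟨_, h⟩)
      else -∑ i : Fin f.natDegree, f.coeff i • s (p.1, i)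
    have hg : ∀ p, g (s p) = if h : (p.2 : ℕ) + 1 < f.natDegree then s (p.1, ⟨_, h⟩)
        else -∑ i : Fin f.natDegree, f.coeff i • s (p.1, i) := fun p => by
      have := b.constr_basis F (fun p => if h : (p.2 : ℕ) + 1 < f.natDegree then s (p.1, ⟨_, h⟩)
        else -∑ i : Fin f.natDegree, f.coeff i • s (p.1, i)) p
      rwa [Basis.mk_apply] at this
    have hpow : ∀ l, ∀ i (hi : i < f.natDegree), (g ^ i) (s (l, ⟨0, hd⟩)) = s (l, ⟨i, hi⟩) := by
      intro l i
      induction i with
      | zero => intro hi; simp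
      | succ i ih =>
        intro hi
        rw [pow_succ', End.mul_apply, ih (by omega), hg, dif_pos hi]
    have hker : ∀ l, aeval g f (s (l, ⟨0, hd⟩)) = 0 := by
      intro l
      obtain ⟨e, he⟩ : ∃ e, f.natDegree = e + 1 := ⟨f.natDegree - 1, by omega⟩
      rw [aeval_eq_sum_range, Finset.sum_range_succ, LinearMap.add_apply, LinearMap.sum_apply,
        LinearMap.smul_apply, hf.coeff_natDegree, one_smul]
      have htop' : (g ^ f.natDegree) (s (l, ⟨0, hd⟩)) = -∑ i : Fin f.natDegree, f.coeff i • s (l, i) := by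
        rw [show g ^ f.natDegree = g * g ^ e by rw [← pow_succ', ← he], End.mul_apply,
          hpow l e (by omega), hg, dif_neg (by simp only; omega)]
      rw [htop', ← Fin.sum_univ_eq_sum_range
        (fun i => (f.coeff i • g ^ i) (s (l, ⟨0, hd⟩))),
        Finset.sum_congr rfl fun (i : Fin f.natDegree) _ => show (f.coeff i • g ^ (i : ℕ)) (s (l, ⟨0, hd⟩)) =
          f.coeff i • s (l, i) by rw [LinearMap.smul_apply, hpow l i i.2],
        add_neg_cancel]
    have hcyc : cyc g f.natDegree (fun l => s (l, ⟨0, hd⟩)) = s := funext fun p => hpow p.1 p.2 p.2.2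
    refine ⟨⟨g, fun l => s (l, ⟨0, hd⟩)⟩, ?_, hcyc⟩
    simp only [Finset.mem_sigma, Finset.mem_filter, Finset.mem_univ, true_and]
    exact ⟨fun l => LinearMap.mem_ker.2 (hker l), hcyc.symm ▸ hs⟩

open Classical in
/-- The sum of `psi` over the endomorphisms with a given primary characteristic polynomial. -/
theorem sum_psi_primary [Fintype V] [Fintype (End F V)] (hf : f.Monic) (hirr : Irreducible f) {m : ℕ}
    (hm : 0 < m) (hn : finrank F V = m * f.natDegree) :
    ∑ g ∈ Finset.univ.filter (fun g : End F V => g.charpoly = f ^ m), psi ω g =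
      rootSum ω f * Nat.card {s : Fin (finrank F V) → V // LinearIndependent F s} /
        (((Fintype.card F : ℂ) ^ f.natDegree) ^ m - 1) := by
  set Q : ℂ := (Fintype.card F : ℂ) ^ f.natDegree with hQ
  obtain ⟨hQ0, hQ1⟩ := Q_facts F hirr.natDegree_pos
  have hd := hirr.natDegree_pos
  obtain ⟨u, hu1, hu⟩ := exists_expand Q m
  set P := ∏ i ∈ Finset.range m, (1 - Q ^ (i + 1)) with hP
  have hP0 : P ≠ 0 := Finset.prod_ne_zero_iff.2 fun i _ => sub_ne_zero.2 fun h => hQ1 (i + 1) i.succ_pos h.symm
  have hzero1 : ∀ j, fallProd Q 1 (j + 1) = 0 := fun j => by simp [fallProd, Finset.prod_range_succ']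
  have hu0 : u 0 = P := by
    rw [hP, ← hu 1, Finset.sum_range_succ', Finset.sum_eq_zero fun j _ => by rw [hzero1, mul_zero]]
    simp [fallProd]
  let c : ℕ → ℂ := fun j => -u (j + 1) / P
  have hc : ∀ k, 1 ≤ k → k ≤ m → ∑ j ∈ Finset.range m, c j * fallProd Q (Q ^ k) (j + 1) = 1 := by
    intro k hk hkm
    have h1 := hu (Q ^ k)
    rw [Finset.prod_eq_zero (Finset.mem_range.2 (show k - 1 < m by omega)) (by
      rw [Nat.sub_add_cancel hk, sub_self]), Finset.sum_range_succ', hu0,
      show fallProd Q (Q ^ k) 0 = 1 from rfl, mul_one] at h1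
    rw [Finset.sum_congr rfl fun j _ => show c j * fallProd Q (Q ^ k) (j + 1) =
      -(u (j + 1) * fallProd Q (Q ^ k) (j + 1)) / P by simp only [c]; ring, ← Finset.sum_div,
      Finset.sum_neg_distrib, eq_neg_of_add_eq_zero_left h1, neg_neg, div_self hP0]
  let T : End F V → ℕ → ℂ := fun g j => ((Finset.univ.filter fun v : Fin j → V => Indep g f v).card : ℂ)
  have hpoint : ∀ g : End F V, (if g.charpoly = f ^ m then psi ω g else 0) =
      psi ω g * ∑ j ∈ Finset.range m, c j * T g (j + 1) := by
    intro g
    by_cases h0 : psi ω g = 0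
    · simp [h0]
    by_cases hdvd : f ∣ g.charpoly
    · obtain ⟨k, hk⟩ := charpoly_eq_pow ω g hirr hf hdvd h0
      have hkm : k = m := by
        have := congrArg natDegree hk
        rw [LinearMap.charpoly_natDegree, natDegree_pow, hn] at this
        exact (Nat.eq_of_mul_eq_mul_right hd this).symm
      subst hkm
      obtain ⟨k', hk', -⟩ := exists_rank (g := g) hf hirr
      have hk1 : 1 ≤ k' := by
        by_contra h
        rw [show k' = 0 by omega, zero_mul, Submodule.finrank_eq_zero] at hk'
        exact ker_ne_bot_of_dvd g hirr hdvd hk'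
      have hk2 : k' ≤ k := by
        have := Submodule.finrank_le (LinearMap.ker (aeval g f))
        rw [hk', hn] at this
        exact Nat.le_of_mul_le_mul_right this hd
      rw [if_pos hk, Finset.sum_congr rfl fun j _ => show c j * T g (j + 1) =
        c j * fallProd Q (Q ^ k') (j + 1) by
          simp only [T]
          rw [card_indep hf hirr, hk', mul_comm k', pow_mul], hc k' hk1 hk2, mul_one]
    · rw [if_neg fun (h : g.charpoly = f ^ m) => hdvd (by rw [h]; exact dvd_pow_self f hm.ne')]
      have hker := ker_eq_bot_of_not_dvd hirr hdvd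
      rw [Finset.sum_eq_zero fun j _ => ?_, mul_zero]
      simp only [T]
      rw [card_indep hf hirr, hker, finrank_bot, pow_zero, hzero1, mul_zero]
  have hS : ∀ j ∈ Finset.range m, ∑ g : End F V, psi ω g * T g (j + 1) =
      if j + 1 = m then rootSum ω f * ssVal Q m *
        Nat.card {s : Fin (finrank F V) → V // LinearIndependent F s} else 0 := by
    intro j hj
    split_ifs with hjm
    · subst hjm
      rw [← card_pairs hf hirr hn, Nat.cast_sum, Finset.mul_sum]
      refine Finset.sum_congr rfl fun g _ => ?_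
      rcases (Finset.univ.filter fun v : Fin (j + 1) → V => Indep g f v).eq_empty_or_nonempty with he | ⟨v, hv⟩
      · simp [T, he]
      have hv' := (Finset.mem_filter.1 hv).2
      have h0 : aeval g f = 0 := LinearMap.ker_eq_top.1 (top_le_iff.1
        ((Submodule.eq_top_of_finrank_eq (S := cspan g f v) ((card_cspan hv').trans hn.symm)).ge.trans
          (cspan_le_ker fun l => LinearMap.mem_ker.1 (hv'.1 l))))
      simp only [T]
      rw [psi_of_aeval_eq_zero ω hf hirr hn h0]
    · simp only [T, Finset.card_filter, Nat.cast_sum, Finset.mul_sum, Nat.cast_ite, Nat.cast_one,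
        Nat.cast_zero, mul_ite, mul_one, mul_zero]
      rw [Finset.sum_comm]
      refine Finset.sum_eq_zero fun v _ => ?_
      rw [← Finset.sum_filter]
      refine sum_psi_indep ω hirr hf j.succ_pos ?_ v
      rw [hn]
      have := Finset.mem_range.1 hj
      exact Nat.mul_lt_mul_of_pos_right (show j + 1 < m by omega) hd
  rw [Finset.sum_filter, Finset.sum_congr rfl fun g _ => hpoint g]
  simp only [Finset.mul_sum]
  rw [Finset.sum_comm, Finset.sum_congr rfl fun j hj => show ∑ g : End F V,
      psi ω g * (c j * T g (j + 1)) = c j * if j + 1 = m then rootSum ω f * ssVal Q m *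
        Nat.card {s : Fin (finrank F V) → V // LinearIndependent F s} else 0 by
    rw [← hS j hj, Finset.mul_sum]
    exact Finset.sum_congr rfl fun g _ => by ring]
  obtain ⟨e, rfl⟩ : ∃ e, m = e + 1 := ⟨m - 1, by omega⟩
  rw [Finset.sum_eq_single e (fun i _ hi => by rw [if_neg (by omega), mul_zero])
    (fun h => absurd (Finset.mem_range.2 (Nat.lt_succ_self e)) h), if_pos rfl]
  simp only [c, hu1]
  have hss : ssVal Q (e + 1) = ∏ i ∈ Finset.range e, (1 - Q ^ (i + 1)) := by
    rw [ssVal, if_neg e.succ_ne_zero, Finset.prod_Ico_eq_prod_range]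
    simp [add_comm]
  have hP' : P = ssVal Q (e + 1) * (1 - Q ^ (e + 1)) := by rw [hP, Finset.prod_range_succ, hss]
  have hss0 : ssVal Q (e + 1) ≠ 0 := fun h => hP0 (by rw [hP', h, zero_mul])
  rw [hP', show (-1 : ℂ) / (ssVal Q (e + 1) * (1 - Q ^ (e + 1))) =
    (ssVal Q (e + 1))⁻¹ * (Q ^ (e + 1) - 1)⁻¹ by
      rw [← neg_sub (Q ^ (e + 1)) 1, mul_neg, neg_div_neg_eq, one_div, mul_inv]]
  field_simp

end Cfsg.Lib.Cusp
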