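import Cfsg.Agent.Lib.Linear.Cusp.Defs

/-!
# Vanishing of the alternating eigenvalue function over a unipotent radical

If `W` is a proper nonzero invariant subspace of `g`, the values of `psi` at the endomorphisms
`g + h`, for `h` running over the maps from the quotient by `W` to `W`, add up to zero.
-/

set_option autoImplicit false
set_option linter.unusedSectionVars false
set_option linter.style.haveILetI false

namespace Cfsg.Lib.Cusp

open Module Polynomial

universe u v

variable {F : Type u} [Field F] [Fintype F] {L : Type*} [Field L] [Algebra F L] (ω : L → ℂ)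
variable {V : Type v} [AddCommGroup V] [Module F V] [FiniteDimensional F V]

/-- The maps shifting `V` into `W`. -/
noncomputable def shift (W : Submodule F V) (h : (V ⧸ W) →ₗ[F] W) : End F V :=
  W.subtype ∘ₗ h ∘ₗ W.mkQ

theorem shift_apply (W : Submodule F V) (h : (V ⧸ W) →ₗ[F] W) (x : V) :
    shift W h x = (h (W.mkQ x) : V) := rfl

theorem shift_apply_mem (W : Submodule F V) (h : (V ⧸ W) →ₗ[F] W) {x : V} (hx : x ∈ W) :
    shift W h x = 0 := by
  rw [shift_apply, Submodule.mkQ_apply, (Submodule.Quotient.mk_eq_zero W).2 hx, map_zero,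
    ZeroMemClass.coe_zero]

theorem finite_hom (M N : Type v) [AddCommGroup M] [Module F M] [FiniteDimensional F M]
    [AddCommGroup N] [Module F N] [FiniteDimensional F N] : Finite (M →ₗ[F] N) := by
  haveI : Finite M := Module.finite_of_finite F
  haveI : Finite N := Module.finite_of_finite F
  exact Finite.of_injective _ DFunLike.coe_injective

theorem finite_submodule (M : Type v) [AddCommGroup M] [Module F M] [FiniteDimensional F M] :
    Finite (Submodule F M) := by
  haveI : Finite M := Module.finite_of_finite F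
  exact Finite.of_injective _ SetLike.coe_injective

section Meet

variable {ω}

/-- The part of the sum at a subspace meeting `W` and not inside it. -/
theorem sum_psiOn_meet (W : Submodule F V) [Fintype ((V ⧸ W) →ₗ[F] W)]
    {g : End F V} (hW : W ≤ W.comap g) {U : Submodule F V} (hUW : ¬ U ≤ W)
    (hUm : U ⊓ W ≠ ⊥)
    (ih : ∀ (g' : End F U) (U' : Submodule F U) [Fintype ((U ⧸ U') →ₗ[F] U')],
      U' ≤ U'.comap g' → U' ≠ ⊥ → U' ≠ ⊤ → ∑ k, psi ω (g' + shift U' k) = 0) :
    ∑ h, psiOn ω (g + shift W h) U = 0 := by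
  classical
  set U' : Submodule F U := W.comap U.subtype with hU'
  haveI : Finite V := Module.finite_of_finite F
  haveI : Finite ((U ⧸ U') →ₗ[F] U') := finite_hom _ _
  letI : Fintype ((U ⧸ U') →ₗ[F] U') := Fintype.ofFinite _
  let ι : (U ⧸ U') →ₗ[F] V ⧸ W := U'.mapQ W U.subtype le_rfl
  have hι : LinearMap.ker ι = ⊥ := by
    rw [LinearMap.ker_eq_bot']
    intro x hx
    obtain ⟨x, rfl⟩ := Submodule.Quotient.mk_surjective _ x
    rw [Submodule.mapQ_apply, Submodule.Quotient.mk_eq_zero] at hx
    exact (Submodule.Quotient.mk_eq_zero _).2 hx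
  obtain ⟨r, hr⟩ := ι.exists_leftInverse_of_injective hι
  let ext : ((U ⧸ U') →ₗ[F] U') → ((V ⧸ W) →ₗ[F] W) := fun k =>
    LinearMap.codRestrict W (U.subtype ∘ₗ U'.subtype ∘ₗ k ∘ₗ r) fun x => (k (r x)).2
  have hext : ∀ k (x : U), shift W (ext k) x = ((shift U' k x : U) : V) := by
    intro k x
    have : r (W.mkQ (x : V)) = U'.mkQ x := LinearMap.congr_fun hr (U'.mkQ x)
    rw [shift_apply, shift_apply]
    show ((U'.subtype (k (r (W.mkQ (x : V)))) : U) : V) = _
    rw [this]
    rfl
  have hinner : ∀ h, ∑ k, psiOn ω (g + shift W (h + ext k)) U = 0 := by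
    intro h
    have hval : ∀ k (x : U), (g + shift W (h + ext k)) x =
        (g + shift W h) x + ((shift U' k x : U) : V) := by
      intro k x
      rw [← hext, LinearMap.add_apply, LinearMap.add_apply]
      simp only [shift_apply, LinearMap.add_apply, Submodule.coe_add]
      abel
    by_cases hinv : U ≤ U.comap (g + shift W h)
    · have hk : ∀ k, psiOn ω (g + shift W (h + ext k)) U =
          psi ω ((g + shift W h).restrict hinv + shift U' k) := by
        intro k
        have h' : U ≤ U.comap (g + shift W (h + ext k)) := fun x hx => by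
          rw [Submodule.mem_comap, hval k ⟨x, hx⟩]
          exact U.add_mem (hinv hx) (shift U' k ⟨x, hx⟩).2
        rw [psiOn_of ω h']
        exact psi_conj ω (LinearEquiv.refl F U) fun x => Subtype.ext (hval k x).symm
      rw [Finset.sum_congr rfl fun k _ => hk k]
      refine ih _ U' ?_ ?_ ?_
      · intro x hx
        show ((g + shift W h) (x : V)) ∈ W
        rw [LinearMap.add_apply, shift_apply_mem W h (show (x : V) ∈ W from hx), add_zero]
        exact hW hx
      · intro h0
        refine hUm ((Submodule.eq_bot_iff _).2 fun x hx => ?_)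
        have : (⟨x, hx.1⟩ : U) ∈ U' := hx.2
        rw [h0, Submodule.mem_bot] at this
        exact congrArg Subtype.val this
      · intro h0
        refine hUW fun x hx => ?_
        have : (⟨x, hx⟩ : U) ∈ U' := h0 ▸ Submodule.mem_top
        exact this
    · refine Finset.sum_eq_zero fun k _ => psiOn_of_not ω fun h' => hinv fun x hx => ?_
      have := U.sub_mem (h' hx) (shift U' k ⟨x, hx⟩).2
      rwa [hval k ⟨x, hx⟩, add_sub_cancel_right] at this
  have h2 : ∀ k, ∑ h, psiOn ω (g + shift W (h + ext k)) U = ∑ h, psiOn ω (g + shift W h) U :=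
    fun k => Equiv.sum_comp (Equiv.addRight (ext k)) (fun h => psiOn ω (g + shift W h) U)
  have h3 : (Fintype.card ((U ⧸ U') →ₗ[F] U') : ℂ) * ∑ h, psiOn ω (g + shift W h) U = 0 :=
    calc _ = ∑ k, ∑ h, psiOn ω (g + shift W (h + ext k)) U := by
            rw [Finset.sum_congr rfl fun k _ => h2 k, Finset.sum_const, Finset.card_univ, nsmul_eq_mul]
      _ = ∑ h, ∑ k, psiOn ω (g + shift W (h + ext k)) U := Finset.sum_comm
      _ = 0 := Finset.sum_eq_zero fun h _ => hinner h
  exact (mul_eq_zero.1 h3).resolve_left (Nat.cast_ne_zero.2 Fintype.card_ne_zero)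

end Meet

/-- The part of the sum at the subspaces meeting `W` trivially. -/
theorem sum_psiOn_disjoint (W : Submodule F V) [Fintype ((V ⧸ W) →ₗ[F] W)]
    [Fintype (Submodule F V)] {g : End F V} (hW : W ≤ W.comap g)
    [DecidablePred fun U : Submodule F V => U ⊓ W = ⊥] :
    ∑ h, ∑ U ∈ Finset.univ.filter (fun U => U ⊓ W = ⊥), psiOn ω (g + shift W h) U =
      (Fintype.card ((V ⧸ W) →ₗ[F] W) : ℂ) * eig ω (W.mapQ W g hW) := by
  classical
  haveI : Finite V := Module.finite_of_finite F
  haveI : Finite (Submodule F (V ⧸ W)) := finite_submodule _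
  letI : Fintype (Submodule F (V ⧸ W)) := Fintype.ofFinite _
  haveI : ∀ A : Submodule F (V ⧸ W), Finite (A →ₗ[F] W) := fun A => finite_hom _ _
  letI : ∀ A : Submodule F (V ⧸ W), Fintype (A →ₗ[F] W) := fun A => Fintype.ofFinite _
  set q := W.mapQ W g hW with hq
  obtain ⟨σ, hσ⟩ := W.mkQ.exists_rightInverse_of_surjective W.range_mkQ
  have hσ' : ∀ x, W.mkQ (σ x) = x := fun x => LinearMap.congr_fun hσ x
  let s : ∀ A : Submodule F (V ⧸ W), (A →ₗ[F] W) → (A →ₗ[F] V) := fun A t =>
    σ ∘ₗ A.subtype + W.subtype ∘ₗ t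
  have hs : ∀ (A : Submodule F (V ⧸ W)) (t : A →ₗ[F] W) (x : A), W.mkQ (s A t x) = (x : V ⧸ W) := fun A t x => by
    simp only [s, LinearMap.add_apply, LinearMap.comp_apply, map_add, Submodule.subtype_apply, hσ']
    rw [(Submodule.Quotient.mk_eq_zero W).2 (t x).2 |> (fun e => (Submodule.mkQ_apply W _).trans e),
      add_zero]
  have hmap : ∀ (A : Submodule F (V ⧸ W)) (t : A →ₗ[F] W), (LinearMap.range (s A t)).map W.mkQ = A := by
    intro A t
    rw [← LinearMap.range_comp, show W.mkQ ∘ₗ s A t = A.subtype from LinearMap.ext (hs A t),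
      Submodule.range_subtype]
  have hinter : ∀ (A : Submodule F (V ⧸ W)) (t : A →ₗ[F] W), LinearMap.range (s A t) ⊓ W = ⊥ := by
    intro A t
    rw [Submodule.eq_bot_iff]
    rintro _ ⟨⟨x, rfl⟩, hx⟩
    have h0 := hs A t x
    rw [Submodule.mkQ_apply, (Submodule.Quotient.mk_eq_zero W).2 hx] at h0
    rw [show x = 0 from Subtype.ext h0.symm, map_zero]
  -- the sum over the complements of a subspace of the quotient
  have key : ∀ A : Submodule F (V ⧸ W),
      ∑ h, ∑ t : A →ₗ[F] W, psiOn ω (g + shift W h) (LinearMap.range (s A t)) =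
      (Fintype.card ((V ⧸ W) →ₗ[F] W) : ℂ) * psiOn ω q A := by
    intro A
    have hqg : ∀ h (x : V), W.mkQ ((g + shift W h) x) = q (W.mkQ x) := by
      intro h x
      rw [LinearMap.add_apply, map_add, shift_apply,
        show W.mkQ ((h (W.mkQ x) : V)) = 0 from (Submodule.Quotient.mk_eq_zero W).2 (h (W.mkQ x)).2,
        add_zero]
      rfl
    by_cases hA : A ≤ A.comap q
    swap
    · rw [psiOn_of_not ω hA, mul_zero]
      refine Finset.sum_eq_zero fun h _ => Finset.sum_eq_zero fun t _ => psiOn_of_not ω fun hinv => ?_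
      refine hA fun x hx => ?_
      have h1 : W.mkQ ((g + shift W h) (s A t ⟨x, hx⟩)) ∈
          (LinearMap.range (s A t)).map W.mkQ := ⟨_, hinv ⟨_, rfl⟩, rfl⟩
      rw [hmap, hqg, hs] at h1
      exact h1
    have hmem : ∀ (t : A →ₗ[F] W) (x : A),
        (s A t ∘ₗ q.restrict hA - g ∘ₗ s A t) x ∈ W := fun t x => by
      rw [← Submodule.Quotient.mk_eq_zero W, ← Submodule.mkQ_apply, LinearMap.sub_apply, map_sub,
        LinearMap.comp_apply, LinearMap.comp_apply, hs, sub_eq_zero]
      have := (hqg 0 (s A t x)).symm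
      rw [hs] at this
      simpa [shift, LinearMap.coe_restrict_apply] using this
    let c : (A →ₗ[F] W) → (A →ₗ[F] W) := fun t => LinearMap.codRestrict W _ (hmem t)
    have hc : ∀ h t, psiOn ω (g + shift W h) (LinearMap.range (s A t)) =
        if h ∘ₗ A.subtype = c t then psiOn ω q A else 0 := by
      intro h t
      have hx : ∀ x : A, (g + shift W h) (s A t x) =
          s A t (q.restrict hA x) + ((h (x : V ⧸ W) : V) - (c t x : V)) := fun x => by
        have hct : (c t x : V) = s A t (q.restrict hA x) - g (s A t x) := rfl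
        rw [LinearMap.add_apply, shift_apply, hs, hct]
        abel
      split_ifs with he
      · have hx' : ∀ x : A, (g + shift W h) (s A t x) = s A t (q.restrict hA x) := fun x => by
          rw [hx, show h (x : V ⧸ W) = c t x from LinearMap.congr_fun he x, sub_self, add_zero]
        have hinv : LinearMap.range (s A t) ≤ (LinearMap.range (s A t)).comap (g + shift W h) := by
          rintro _ ⟨x, rfl⟩
          exact ⟨_, (hx' x).symm⟩
        have hinj : Function.Injective (s A t) := fun x y hxy => Subtype.ext <| by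
          rw [← hs A t x, hxy, hs A t y]
        rw [psiOn_of ω hinv, psiOn_of ω hA]
        exact psi_conj ω (LinearEquiv.ofInjective (s A t) hinj)
          fun x => Subtype.ext (hx' x).symm
      · refine psiOn_of_not ω fun hinv => he (LinearMap.ext fun x => Subtype.ext ?_)
        have h1 : ((h (x : V ⧸ W) : V) - (c t x : V)) ∈ LinearMap.range (s A t) := by
          rw [eq_sub_of_add_eq' (hx x).symm]
          exact Submodule.sub_mem _ (hinv ⟨x, rfl⟩) ⟨_, rfl⟩
        have h2 : ((h (x : V ⧸ W) : V) - (c t x : V)) ∈ LinearMap.range (s A t) ⊓ W :=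
          ⟨h1, W.sub_mem (h (x : V ⧸ W)).2 (c t x).2⟩
        rw [hinter, Submodule.mem_bot] at h2
        exact sub_eq_zero.1 h2
    rw [Finset.sum_comm, Finset.sum_congr rfl fun t _ => Finset.sum_congr rfl fun h _ => hc h t]
    simp only [← Finset.sum_filter, Finset.sum_const, nsmul_eq_mul, ← Finset.sum_mul]
    congr 1
    let res : ((V ⧸ W) →ₗ[F] W) → (A →ₗ[F] W) := fun h => h ∘ₗ A.subtype
    have hshift : ∀ a b : A →ₗ[F] W,
        (Finset.univ.filter fun h => res h = a).card = (Finset.univ.filter fun h => res h = b).card := by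
      intro a b
      obtain ⟨E, hE⟩ := LinearMap.exists_extend (b - a)
      refine Finset.card_bij' (fun h _ => h + E) (fun h _ => h - E) ?_ ?_ ?_ ?_
      · intro h hh
        simp only [Finset.mem_filter, Finset.mem_univ, true_and, res] at hh ⊢
        rw [LinearMap.add_comp, hh, hE, add_sub_cancel]
      · intro h hh
        simp only [Finset.mem_filter, Finset.mem_univ, true_and, res] at hh ⊢
        rw [LinearMap.sub_comp, hh, hE, sub_sub_cancel]
      · intro h _; simp
      · intro h _; simp
    rw [← Nat.cast_sum, Nat.cast_inj]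
    calc ∑ t, (Finset.univ.filter fun h => res h = c t).card
        = ∑ t, (Finset.univ.filter fun h => res h = t).card := Finset.sum_congr rfl fun t _ => hshift _ _
      _ = Fintype.card ((V ⧸ W) →ₗ[F] W) :=
        (Finset.card_eq_sum_card_fiberwise (f := res) (t := Finset.univ) fun h _ => Finset.mem_univ _).symm
  rw [← sum_psiOn ω q, Finset.mul_sum, ← Finset.sum_congr rfl fun A _ => key A,
    Finset.sum_comm (s := (Finset.univ : Finset (Submodule F (V ⧸ W))))]
  refine Finset.sum_congr rfl fun h _ => ?_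
  rw [← Fintype.sum_sigma']
  refine (Finset.sum_bij (fun (p : Σ A : Submodule F (V ⧸ W), A →ₗ[F] W) _ =>
    LinearMap.range (s p.1 p.2)) (fun p _ => by simp [hinter]) ?_ ?_ fun p _ => rfl).symm
  · rintro ⟨A, t⟩ _ ⟨B, t'⟩ _ (he : LinearMap.range (s A t) = LinearMap.range (s B t'))
    obtain rfl : A = B := by rw [← hmap A t, he, hmap]
    congr 1
    refine LinearMap.ext fun x => Subtype.ext ?_
    obtain ⟨y, hy⟩ := he ▸ LinearMap.mem_range_self (s A t) x
    have : y = x := Subtype.ext <| by rw [← hs A t' y, hy, hs]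
    subst this
    simpa [s] using hy.symm
  · intro U hU
    have hU' : U ⊓ W = ⊥ := (Finset.mem_filter.1 hU).2
    let m : U →ₗ[F] (U.map W.mkQ) := LinearMap.codRestrict _ (W.mkQ ∘ₗ U.subtype) fun x => ⟨x, x.2, rfl⟩
    have hm : Function.Bijective m := by
      constructor
      · intro x y hxy
        have h1 : ((x : V) - y) ∈ U ⊓ W := ⟨U.sub_mem x.2 y.2, (Submodule.Quotient.eq W).1
          (congrArg Subtype.val hxy)⟩
        rw [hU', Submodule.mem_bot, sub_eq_zero] at h1
        exact Subtype.ext h1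
      · rintro ⟨_, x, hx, rfl⟩
        exact ⟨⟨x, hx⟩, rfl⟩
    let e := LinearEquiv.ofBijective m hm
    have ht : ∀ a : U.map W.mkQ, (U.subtype ∘ₗ e.symm.toLinearMap - σ ∘ₗ (U.map W.mkQ).subtype) a ∈ W := by
      intro a
      rw [← Submodule.Quotient.mk_eq_zero W, ← Submodule.mkQ_apply, LinearMap.sub_apply, map_sub,
        LinearMap.comp_apply, LinearMap.comp_apply, hσ', sub_eq_zero]
      exact congrArg Subtype.val (e.apply_symm_apply a)
    refine ⟨⟨U.map W.mkQ, LinearMap.codRestrict W _ ht⟩, Finset.mem_univ _, ?_⟩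
    have : s (U.map W.mkQ) (LinearMap.codRestrict W _ ht) = U.subtype ∘ₗ e.symm.toLinearMap := by
      refine LinearMap.ext fun a => ?_
      simp [s]
    show LinearMap.range (s _ _) = U
    rw [this, LinearMap.range_comp, LinearEquiv.range, Submodule.map_top, Submodule.range_subtype]

theorem sum_psi_shift (W : Submodule F V) [Fintype ((V ⧸ W) →ₗ[F] W)] {g : End F V}
    (hW : W ≤ W.comap g) (hb : W ≠ ⊥) (ht : W ≠ ⊤) :
    ∑ h, psi ω (g + shift W h) = 0 := by
  induction hn : finrank F V using Nat.strong_induction_on generalizing V with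
  | _ n ih =>
  subst hn
  classical
  haveI : Finite V := Module.finite_of_finite F
  letI : Fintype (Submodule F V) := Fintype.ofFinite _
  have hsum : ∀ h, eig ω (g + shift W h) = eig ω (g.restrict hW) + eig ω (W.mapQ W g hW) := by
    intro h
    have hW' : W ≤ W.comap (g + shift W h) := fun x hx => by
      rw [Submodule.mem_comap, LinearMap.add_apply, shift_apply_mem W h hx, add_zero]
      exact hW hx
    rw [eig_add ω _ W hW']
    congr 1
    · exact eig_conj ω (LinearEquiv.refl F W) fun x => Subtype.ext <| by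
        simp [LinearMap.coe_restrict_apply, shift_apply_mem W h x.2]
    · refine eig_conj ω (LinearEquiv.refl F (V ⧸ W)) fun x => ?_
      obtain ⟨x, rfl⟩ := Submodule.Quotient.mk_surjective _ x
      simp [shift_apply]
  have hsplit : ∀ h, psi ω (g + shift W h) +
      (∑ U ∈ Finset.univ.filter (· ≤ W), psiOn ω g U +
        (∑ U ∈ Finset.univ.filter (fun U => U ⊓ W = ⊥), psiOn ω (g + shift W h) U +
          ∑ U ∈ Finset.univ.filter (fun U => ¬ U ≤ W ∧ U ⊓ W ≠ ⊥ ∧ U ≠ ⊤),
            psiOn ω (g + shift W h) U)) = eig ω (g + shift W h) := by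
    intro h
    rw [← sum_psiOn ω (g + shift W h), Finset.sum_congr rfl (g := fun U => psiOn ω (g + shift W h) U)
      fun U hU => psiOn_congr ω fun x hx => by
        rw [LinearMap.add_apply, shift_apply_mem W h ((Finset.mem_filter.1 hU).2 hx), add_zero]]
    simp only [Finset.sum_filter]
    rw [← psiOn_top ω (g + shift W h)]
    conv_lhs => arg 1; rw [show psiOn ω (g + shift W h) ⊤ =
      ∑ U, if U = ⊤ then psiOn ω (g + shift W h) U else 0 by simp]
    simp only [← Finset.sum_add_distrib]
    refine Finset.sum_congr rfl fun U _ => ?_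
    by_cases h1 : U ≤ W
    · have h2 : U ≠ ⊤ := fun h => ht (top_le_iff.1 (h ▸ h1))
      by_cases h3 : U ⊓ W = ⊥
      · have : U = ⊥ := by rwa [inf_eq_left.2 h1] at h3
        subst this
        simp [psiOn_bot]
      · have h4 : U ≠ ⊥ := fun h => h3 (by rw [h, bot_inf_eq])
        simp [h1, h2, h4]
    · by_cases h3 : U ⊓ W = ⊥
      · have h2 : U ≠ ⊤ := fun h => hb (by rwa [h, top_inf_eq] at h3)
        simp [h1, h2, h3]
      · by_cases h2 : U = ⊤ <;> simp [h1, h2, h3, hb, ht]
  have hzero : ∑ h, ∑ U ∈ Finset.univ.filter (fun U => ¬ U ≤ W ∧ U ⊓ W ≠ ⊥ ∧ U ≠ ⊤),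
      psiOn ω (g + shift W h) U = 0 := by
    rw [Finset.sum_comm]
    refine Finset.sum_eq_zero fun U hU => ?_
    obtain ⟨-, h1, h2, h3⟩ := Finset.mem_filter.1 hU
    refine sum_psiOn_meet W hW h1 h2 fun g' U' _ a b c => ?_
    exact ih (finrank F U) (Submodule.finrank_lt h3) U' a b c rfl
  have h1 := Finset.sum_congr (s₁ := (Finset.univ : Finset ((V ⧸ W) →ₗ[F] W))) rfl fun h _ => hsplit h
  rw [Finset.sum_add_distrib, Finset.sum_add_distrib, Finset.sum_add_distrib, hzero,
    sum_psiOn_disjoint ω W hW, Finset.sum_congr rfl fun h _ => hsum h, sum_psiOn_le ω g hW] at h1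
  simp only [Finset.sum_const, Finset.card_univ, nsmul_eq_mul] at h1
  linear_combination h1

end Cfsg.Lib.Cusp
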